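import Groth.Agent.InjQC.Resolution
import Groth.Agent.H9Misc.BddInjective
import Groth.Agent.QCoh.DevissageSum
import Mathlib.Algebra.Homology.DerivedCategory.TStructure

/-!
# Bounded objects with quasi-coherent cohomology by complexes of injective quasi-coherent modules
-/

set_option linter.style.haveILetI false
set_option linter.unusedSectionVars false
set_option backward.isDefEq.respectTransparency false
set_option backward.isDefEq.respectTransparency.types false
set_option maxHeartbeats 1000000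

universe u

open CategoryTheory CategoryTheory.Limits AlgebraicGeometry Pretriangulated

attribute [local instance] HasDerivedCategory.standard

noncomputable section

namespace Groth.Agent.InjQC

open Groth.Agent

variable {X : Scheme.{u}}

/-- A bounded below complex of injective modules representing `K`, with terms in a graded class. -/
def Rep (Pt : ℤ → X.Modules → Prop) (K : DCoh.D X) : Prop :=
  ∃ (I : CochainComplex X.Modules ℤ) (b : ℤ), I.IsStrictlyGE b ∧ (∀ n, Injective (I.X n)) ∧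
    (∀ n, Pt n (I.X n)) ∧ Nonempty (K ≅ DerivedCategory.Q.obj I)

theorem Rep.of_iso {Pt : ℤ → X.Modules → Prop} {K L : DCoh.D X} (e : K ≅ L) (h : Rep Pt K) : Rep Pt L := by
  obtain ⟨I, b, hb, hi, hP, ⟨e'⟩⟩ := h
  exact ⟨I, b, hb, hi, hP, ⟨e.symm ≪≫ e'⟩⟩

theorem Rep.mono {Pt Pt' : ℤ → X.Modules → Prop} {K : DCoh.D X} (hP : ∀ n M, Pt n M → Pt' n M)
    (h : Rep Pt K) : Rep Pt' K := by
  obtain ⟨I, b, hb, hi, hp, he⟩ := h
  exact ⟨I, b, hb, hi, fun n => hP n _ (hp n), he⟩

/-- Extensions. -/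
theorem Rep.obj₂ {Pt : ℤ → X.Modules → Prop}
    (hP : ∀ n (A B C : X.Modules), (C ≅ A ⊞ B) → Pt n A → Pt n B → Pt n C)
    (T : Triangle (DCoh.D X)) (hT : T ∈ distTriang _) (h₁ : Rep Pt T.obj₁) (h₃ : Rep Pt T.obj₃) :
    Rep Pt T.obj₂ := by
  obtain ⟨I₁, b₁, hb₁, hi₁, hp₁, ⟨e₁⟩⟩ := h₁
  obtain ⟨I₃, b₃, hb₃, hi₃, hp₃, ⟨e₃⟩⟩ := h₃
  haveI := hi₁
  haveI : I₁.IsKInjective := CochainComplex.isKInjective_of_injective I₁ b₁
  let J : CochainComplex X.Modules ℤ := I₃⟦(-1 : ℤ)⟧
  let eJ : T.invRotate.obj₁ ≅ DerivedCategory.Q.obj J :=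
    (shiftFunctor _ (-1 : ℤ)).mapIso e₃ ≪≫ ((DerivedCategory.Q.commShiftIso (-1 : ℤ)).app I₃).symm
  obtain ⟨ψ, hψ⟩ := H9Misc.BddInjective.lift_to_injective (eJ.inv ≫ T.invRotate.mor₁ ≫ e₁.hom)
  obtain ⟨e, -, -⟩ := exists_iso_of_arrow_iso _ _
    (DerivedCategory.mappingCone_triangle_distinguished ψ) (inv_rot_of_distTriang _ hT)
    (Arrow.isoMk eJ.symm e₁.symm (by
      show eJ.inv ≫ T.invRotate.mor₁ = DerivedCategory.Q.map ψ ≫ e₁.inv
      rw [hψ]
      exact ((Category.assoc _ _ _).trans (congrArg (eJ.inv ≫ ·) ((Category.assoc _ _ _).trans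
        ((congrArg (T.invRotate.mor₁ ≫ ·) e₁.hom_inv_id).trans (Category.comp_id _))))).symm))
  have hX : ∀ i, Nonempty ((CochainComplex.mappingCone ψ).X i ≅ I₃.X i ⊞ I₁.X i) := fun i => by
    haveI : HasBinaryBiproduct (J.X (i + 1)) (I₁.X i) := inferInstance
    exact ⟨HomologicalComplex.homotopyCofiber.XIsoBiprod ψ i (i + 1) rfl ≪≫
      biprod.mapIso (eqToIso (congrArg I₃.X (show i + 1 + (-1) = i by omega))) (Iso.refl _)⟩
  refine ⟨CochainComplex.mappingCone ψ, min b₃ b₁, ?_, fun i => ?_, fun i => ?_,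
    ⟨(Triangle.π₃.mapIso e).symm⟩⟩
  · rw [CochainComplex.isStrictlyGE_iff]
    intro i hi
    obtain ⟨eX⟩ := hX i
    refine IsZero.of_iso ?_ eX
    rw [IsZero.iff_id_eq_zero]
    exact biprod.hom_ext _ _ ((I₃.isZero_of_isStrictlyGE b₃ _ (by omega)).eq_of_tgt _ _)
      ((I₁.isZero_of_isStrictlyGE b₁ _ (by omega)).eq_of_tgt _ _)
  · obtain ⟨eX⟩ := hX i
    haveI := hi₃ i
    exact Injective.of_iso eX.symm inferInstance
  · obtain ⟨eX⟩ := hX i
    exact hP i _ _ _ eX (hp₃ i) (hp₁ i)

theorem isQCoh_biprod {A B : X.Modules} (hA : Coh.IsQCoh A) (hB : Coh.IsQCoh B) : Coh.IsQCoh (A ⊞ B) :=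
  QCoh.isQCoh_X₂ (S := ShortComplex.mk (biprod.inl : A ⟶ A ⊞ B) biprod.snd (by simp))
    (ShortComplex.Splitting.ofHasBinaryBiproduct A B).shortExact hA hB

/-- The graded class: quasi-coherent, and zero above `c + e` for every admissible bound `e`. -/
def Term (adm : ℕ → Prop) (c : ℤ) (n : ℤ) (M : X.Modules) : Prop :=
  Coh.IsQCoh M ∧ ∀ e : ℕ, adm e → c + e < n → IsZero M

theorem term_biprod {adm : ℕ → Prop} {c : ℤ} (n : ℤ) (A B C : X.Modules) (e : C ≅ A ⊞ B)
    (hA : Term adm c n A) (hB : Term adm c n B) : Term adm c n C :=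
  ⟨(QCoh.isQCoh_iff_iso e).2 (isQCoh_biprod hA.1 hB.1), fun k hk hn => by
    refine IsZero.of_iso ?_ e
    rw [IsZero.iff_id_eq_zero]
    exact biprod.hom_ext _ _ ((hA.2 k hk hn).eq_of_tgt _ _) ((hB.2 k hk hn).eq_of_tgt _ _)⟩

variable [IsLocallyNoetherian X] {adm : ℕ → Prop}

/-- The bounds are attained by the cosyzygies. -/
def Admissible (X : Scheme.{u}) [IsLocallyNoetherian X] (adm : ℕ → Prop) : Prop :=
  ∀ (M : X.Modules) (hM : Coh.IsQCoh M) (e : ℕ), adm e → Injective (stages hM e).M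

theorem admissible_false : Admissible X (fun _ => False) := fun _ _ _ h => h.elim

theorem rep_single (hadm : Admissible X adm) {M : X.Modules} (hM : Coh.IsQCoh M) (a : ℤ) :
    Rep (Term adm a) ((DerivedCategory.singleFunctor X.Modules a).obj M) := by
  let R := resolution hM
  let e₀ : (DerivedCategory.singleFunctor X.Modules 0).obj M ≅ DerivedCategory.Q.obj R.cochainComplex :=
    (((SingleFunctors.evaluation _ _ 0).mapIso
      (DerivedCategory.singleFunctorsPostcompQIso X.Modules)).app M) ≪≫ asIso (DerivedCategory.Q.map R.ι')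
  let I : CochainComplex X.Modules ℤ := R.cochainComplex⟦(-a : ℤ)⟧
  have hI : ∀ n, I.X n = R.cochainComplex.X (n + -a) := fun n => rfl
  refine ⟨I, a, ?_, fun n => ?_, fun n => ⟨?_, fun e he hn => ?_⟩, ⟨?_⟩⟩
  · exact CochainComplex.isStrictlyGE_shift R.cochainComplex 0 (-a) a (by omega)
  · exact (inferInstance : Injective (R.cochainComplex.X (n + -a)))
  · show Coh.IsQCoh (R.cochainComplex.X (n + -a))
    by_cases h : 0 ≤ n + -a
    · obtain ⟨k, hk⟩ := Int.eq_ofNat_of_zero_le h
      exact (QCoh.isQCoh_iff_iso (R.cochainComplexXIso _ k hk.symm)).2 (resolution_qcoh hM k)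
    · exact KFlatLib.isQCoh_of_isZero (R.cochainComplex.isZero_of_isStrictlyGE 0 _ (by omega))
  · show IsZero (R.cochainComplex.X (n + -a))
    obtain ⟨k, hk⟩ := Int.eq_ofNat_of_zero_le (show 0 ≤ n + -a by omega)
    exact (resolution_isZero hM (hadm M hM e he) k (by omega)).of_iso (R.cochainComplexXIso _ k hk.symm)
  · exact ((((DerivedCategory.singleFunctors X.Modules).shiftIso (-a) a 0 (by omega)).app M).symm) ≪≫
      (shiftFunctor (DCoh.D X) (-a)).mapIso e₀ ≪≫
      ((DerivedCategory.Q.commShiftIso (-a)).app R.cochainComplex).symm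

/-- Bounded objects with quasi-coherent cohomology. -/
theorem rep_bounded (hadm : Admissible X adm) : ∀ (m : ℕ) (a : ℤ) (K : DCoh.D X), K.IsGE a →
    K.IsLE (a + m) → DCoh.IsQCohD K → Rep (Term adm (a + m)) K := by
  intro m
  induction m with
  | zero =>
    intro a K hge hle hq
    haveI := hge
    haveI : K.IsLE a := by simpa using hle
    obtain ⟨M, ⟨e⟩⟩ := DerivedCategory.exists_iso_singleFunctor_obj_of_isGE_of_isLE K a
    have hM : Coh.IsQCoh M := KFlatLib.isQCoh_of_iso
      ((DerivedCategory.homologyFunctor X.Modules a).mapIso e ≪≫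
        (DerivedCategory.singleFunctorCompHomologyFunctorIso X.Modules a).app M) (hq a)
    simpa using (rep_single hadm hM a).of_iso e.symm
  | succ m ih =>
    intro a K hge hle hq
    haveI := hge
    haveI := hle
    let t : Triangulated.TStructure (DCoh.D X) := DerivedCategory.TStructure.t
    let T := (t.triangleLTGE (a + 1)).obj K
    have hT : T ∈ distTriang _ := t.triangleLTGE_distinguished _ K
    haveI h₁le : T.obj₁.IsLE a := t.isLE_truncLT_obj K _ _ (by omega)
    haveI h₃ge : T.obj₃.IsGE (a + 1) := t.isGE_truncGE_obj K _ _ le_rfl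
    haveI h₁ge : T.obj₁.IsGE a := by
      rw [DerivedCategory.isGE_iff]
      intro i hi
      exact (DerivedCategory.HomologySequence.exact₁ T hT (i - 1) i (by omega)).isZero_X₂
        ((DerivedCategory.isZero_of_isGE T.obj₃ (a + 1) (i - 1) (by omega)).eq_of_src _ _)
        ((DerivedCategory.isZero_of_isGE K a i hi).eq_of_tgt _ _)
    haveI h₃le : T.obj₃.IsLE (a + 1 + m) := by
      rw [DerivedCategory.isLE_iff]
      intro i hi
      exact (DerivedCategory.HomologySequence.exact₃ T hT i (i + 1) rfl).isZero_X₂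
        ((DerivedCategory.isZero_of_isLE K (a + (m + 1 : ℕ)) i (by omega)).eq_of_src _ _)
        ((DerivedCategory.isZero_of_isLE T.obj₁ a (i + 1) (by omega)).eq_of_tgt _ _)
    have hq₃ : DCoh.IsQCohD T.obj₃ := fun i => by
      by_cases hi : a + 1 ≤ i
      · haveI : Mono ((DerivedCategory.homologyFunctor X.Modules i).map T.mor₂) :=
          (DerivedCategory.HomologySequence.exact₂ T hT i).mono_g
            ((DerivedCategory.isZero_of_isLE T.obj₁ a i (by omega)).eq_of_src _ _)
        haveI : Epi ((DerivedCategory.homologyFunctor X.Modules i).map T.mor₂) :=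
          (DerivedCategory.HomologySequence.exact₃ T hT i (i + 1) rfl).epi_f
            ((DerivedCategory.isZero_of_isLE T.obj₁ a (i + 1) (by omega)).eq_of_tgt _ _)
        haveI := isIso_of_mono_of_epi ((DerivedCategory.homologyFunctor X.Modules i).map T.mor₂)
        exact KFlatLib.isQCoh_of_iso (asIso ((DerivedCategory.homologyFunctor X.Modules i).map T.mor₂)) (hq i)
      · exact KFlatLib.isQCoh_of_isZero (DerivedCategory.isZero_of_isGE T.obj₃ (a + 1) i (by omega))
    have hq₁ : DCoh.IsQCohD T.obj₁ := KFlatLib.isQCohD_obj₁ hT hq hq₃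
    have hmono : ∀ c c' : ℤ, c ≤ c' → ∀ n (M : X.Modules), Term adm c n M → Term adm c' n M :=
      fun c c' h n M hM => ⟨hM.1, fun e he hn => hM.2 e he (by omega)⟩
    exact Rep.obj₂ term_biprod T hT
      ((ih a T.obj₁ h₁ge (t.isLE_of_le _ a _ (by omega)) hq₁).mono (hmono _ _ (by push_cast; omega)))
      ((ih (a + 1) T.obj₃ h₃ge h₃le hq₃).mono (hmono _ _ (by push_cast; omega)))

/-- Bounded objects with quasi-coherent cohomology are bounded complexes of quasi-coherent modules. -/
theorem exists_bounded_qcoh (K : DCoh.D X) (a b : ℤ) [K.IsGE a] [K.IsLE b] (hK : DCoh.IsQCohD K) :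
    ∃ (Q : CochainComplex X.Modules ℤ) (a' b' : ℤ), Q.IsStrictlyGE a' ∧ Q.IsStrictlyLE b' ∧
      (∀ n, Coh.IsQCoh (Q.X n)) ∧ Nonempty (K ≅ DerivedCategory.Q.obj Q) := by
  obtain ⟨I, a', ha', -, hP, ⟨e⟩⟩ := rep_bounded admissible_false (b - a).toNat a K ‹_›
    (DerivedCategory.TStructure.t.isLE_of_le _ b _ (by omega)) hK
  let c := max a' b
  haveI : (DerivedCategory.Q.obj I).IsLE b := DerivedCategory.TStructure.t.isLE_of_iso e b
  haveI : I.IsLE b := by
    rw [CochainComplex.isLE_iff]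
    intro i hi
    rw [HomologicalComplex.exactAt_iff_isZero_homology]
    exact (DerivedCategory.isZero_of_isLE (DerivedCategory.Q.obj I) b i hi).of_iso
      ((DerivedCategory.homologyFunctorFactors X.Modules i).app I).symm
  haveI : I.IsLE c := (CochainComplex.isLE_iff I c).2 fun i hi =>
    CochainComplex.exactAt_of_isLE I b i (by omega)
  haveI : QuasiIso (I.ιTruncLE c) := ⟨fun i => by
    rcases le_or_gt i c with hi | hi
    · exact I.quasiIsoAt_ιTruncLE c i hi
    · rw [quasiIsoAt_iff_exactAt']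
      · exact CochainComplex.exactAt_of_isLE _ c i hi
      · exact CochainComplex.exactAt_of_isLE I c i hi⟩
  let emb := ComplexShape.embeddingUpIntLE c
  refine ⟨I.truncLE c, a', c, (CochainComplex.isStrictlyGE_iff _ a').2 fun i hi => ?_, inferInstance,
    fun i => ?_, ⟨e ≪≫ (asIso (DerivedCategory.Q.map (I.ιTruncLE c))).symm⟩⟩
  · obtain ⟨n, rfl⟩ : ∃ n : ℕ, c - n = i := ⟨(c - i).toNat, by omega⟩
    exact (I.isZero_of_isStrictlyGE a' _ hi).of_iso (HomologicalComplex.truncLEXIso I emb (i := n) rfl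
      (fun hb => by have := (ComplexShape.boundaryLE_embeddingUpIntLE_iff c n).1 hb; omega))
  · rcases lt_or_ge c i with hic | hic
    · exact KFlatLib.isQCoh_of_isZero ((I.truncLE c).isZero_of_isStrictlyLE c i hic)
    obtain ⟨n, rfl⟩ : ∃ n : ℕ, c - n = i := ⟨(c - i).toNat, by omega⟩
    rcases Nat.eq_zero_or_pos n with rfl | hn
    · refine KFlatLib.isQCoh_of_iso (HomologicalComplex.truncLEXIsoCycles I emb (i := 0) rfl
        ((ComplexShape.boundaryLE_embeddingUpIntLE_iff c 0).2 rfl)).symm ?_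
      exact KFlatLib.isQCoh_of_iso
        (IsLimit.conePointUniqueUpToIso (I.cyclesIsKernel (c - (0 : ℕ)) _ rfl) (kernelIsKernel _)).symm
        (QCoh.isQCoh_kernel (hP _).1 (hP _).1 _)
    · exact KFlatLib.isQCoh_of_iso (HomologicalComplex.truncLEXIso I emb (i := n) rfl
        (fun hb => by have := (ComplexShape.boundaryLE_embeddingUpIntLE_iff c n).1 hb; omega)).symm (hP _).1

end Groth.Agent.InjQC
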