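import Groth.Agent.InjQC.QCohInj
import Groth.Agent.S12903
import Groth.Agent.QCoh.Qcqs

/-!
# Sections with supports of injective quasi-coherent modules
-/

set_option linter.style.haveILetI false
set_option linter.unusedSectionVars false
set_option backward.isDefEq.respectTransparency false
set_option backward.isDefEq.respectTransparency.types false
set_option maxHeartbeats 1000000

universe u

open CategoryTheory CategoryTheory.Limits AlgebraicGeometry TopologicalSpace Opposite

namespace Groth.Agent.InjQC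

open Groth.Agent

variable {U X : Scheme.{u}} (j : U ⟶ X) [IsOpenImmersion j] (F : X.Modules)

theorem isQCoh_gammaZ [QuasiCompact j] (hF : Coh.IsQCoh F) : Coh.IsQCoh ((DCoh.gammaZ j).obj F) :=
  QCoh.isQCoh_kernel hF (QCoh.isQCoh_pushforward j (QCoh.isQCoh_restrict j hF)) _

theorem injective_gammaZ [IsLocallyNoetherian X] [QuasiCompact j] (hF : Coh.IsQCoh F) [Injective F] :
    Injective ((DCoh.gammaZ j).obj F) := by
  refine injective_of_sections (isQCoh_gammaZ j F hF) fun x => ?_
  obtain ⟨_, ⟨V, hV, rfl⟩, hxV, -⟩ :=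
    X.isBasis_affineOpens.exists_subset_of_mem_open (Set.mem_univ x) isOpen_univ
  refine ⟨V, hV, hxV, ?_⟩
  let A := Γ(X, V)
  haveI : IsNoetherianRing A := IsLocallyNoetherian.component_noetherian ⟨V, hV⟩
  haveI := injective_sections_of_injective (F := F) hV
  let Z : Set (PrimeSpectrum A) := (hV.fromSpec ⁻¹' (Set.range j.base))ᶜ
  have hZc : IsClosed Z := (j.isOpenEmbedding.isOpen_range.preimage hV.fromSpec.continuous).isClosed_compl
  let J : Ideal A := PrimeSpectrum.vanishingIdeal Z
  have hJ : ∀ y : X, y ∈ V → (y ∉ Set.range j.base ↔ ∀ f ∈ J, y ∉ X.basicOpen f) := fun y hy => by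
    have h1 : hV.primeIdealOf ⟨y, hy⟩ ∈ PrimeSpectrum.zeroLocus (J : Set A) ↔
        hV.primeIdealOf ⟨y, hy⟩ ∈ Z := by
      rw [PrimeSpectrum.zeroLocus_vanishingIdeal_eq_closure, hZc.closure_eq]
    have h2 : hV.primeIdealOf ⟨y, hy⟩ ∈ Z ↔ y ∉ Set.range j.base := by
      show hV.fromSpec (hV.primeIdealOf ⟨y, hy⟩) ∉ Set.range j.base ↔ _
      rw [hV.fromSpec_primeIdealOf]
    rw [← h2, ← h1, PrimeSpectrum.mem_zeroLocus]
    simp only [QCoh.mem_basicOpen_iff_notMem hV hy, not_not]
    rfl
  let T : Submodule A Γ(F, V) :=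
    ⨆ n : ℕ, Submodule.torsionBySet A Γ(F, V) ((J ^ n : Ideal A) : Set A)
  haveI : Module.Injective A ↥T := LC.injective_torsion J
  let i : Γ((DCoh.gammaZ j).obj F, V) →ₗ[A] Γ(F, V) :=
    { toFun := ((CxOX.gammaZι j).app F).app V
      map_add' := map_add (((CxOX.gammaZι j).app F).app V).hom
      map_smul' := fun r z => Scheme.Modules.Hom.app_smul ((CxOX.gammaZι j).app F) r z }
  haveI : Mono ((CxOX.gammaZι j).app F) :=
    inferInstanceAs (Mono (kernel.ι ((Scheme.Modules.restrictAdjunction j).unit.app F)))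
  have hi : Function.Injective i := QCoh.app_injective ((CxOX.gammaZι j).app F) V
  have hrange : LinearMap.range i = T := by
    refine Submodule.ext fun s => ?_
    rw [LC.mem_iSup_torsionBySet]
    exact S12903.result j F hF V hV J (IsNoetherian.noetherian J) hJ s
  haveI : Module.Injective A ↥(LinearMap.range i) := hrange ▸ inferInstance
  exact LC.injective_of_linearEquiv (LinearEquiv.ofInjective i hi).symm

end Groth.Agent.InjQC
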