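import Groth.Agent.InjQC.QCohInj
import Groth.Agent.KFlatLib.Scheme.QCohD
import Mathlib.CategoryTheory.Abelian.Injective.Resolution
import Mathlib.CategoryTheory.Abelian.Injective.Extend

/-!
# Resolutions by injective quasi-coherent modules
-/

set_option linter.style.haveILetI false
set_option linter.unusedSectionVars false
set_option backward.isDefEq.respectTransparency false
set_option backward.isDefEq.respectTransparency.types false

universe u

open CategoryTheory CategoryTheory.Limits AlgebraicGeometry TopologicalSpace Opposite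

namespace Groth.Agent.InjQC

open Groth.Agent

variable {X : Scheme.{u}} [IsLocallyNoetherian X]

/-- A quasi-coherent module embeds into an injective quasi-coherent one, which is itself if it is injective. -/
theorem exists_mono_injective {M : X.Modules} (hM : Coh.IsQCoh M) :
    ∃ (E : X.Modules) (i : M ⟶ E), Mono i ∧ Injective E ∧ Coh.IsQCoh E ∧ (Injective M → IsIso i) := by
  by_cases h : Injective M
  · exact ⟨M, 𝟙 M, inferInstance, h, hM, fun _ => inferInstance⟩
  · obtain ⟨E, f, hf, hE⟩ := exists_hull.{u} (Injective.ι M)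
    haveI := hE
    exact ⟨E, f, hf.mono, hE, isQCoh_of_ess hM hf, fun h' => absurd h' h⟩

/-- A stage of the resolution: a cosyzygy with its embedding. -/
structure Stage (X : Scheme.{u}) where
  M : X.Modules
  E : X.Modules
  i : M ⟶ E
  mono : Mono i
  inj : Injective E
  qM : Coh.IsQCoh M
  qE : Coh.IsQCoh E
  isIso : Injective M → IsIso i

attribute [instance] Stage.mono Stage.inj

/-- The stage starting at a quasi-coherent module. -/
noncomputable def stageOf {M : X.Modules} (hM : Coh.IsQCoh M) : Stage X :=
  let h := exists_mono_injective hM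
  ⟨M, h.choose, h.choose_spec.choose, h.choose_spec.choose_spec.1, h.choose_spec.choose_spec.2.1, hM,
    h.choose_spec.choose_spec.2.2.1, h.choose_spec.choose_spec.2.2.2⟩

/-- The sequence of stages. -/
noncomputable def stages {M : X.Modules} (hM : Coh.IsQCoh M) : ℕ → Stage X
  | 0 => stageOf hM
  | n + 1 => stageOf (QCoh.isQCoh_cokernel (stages hM n).qM (stages hM n).qE (stages hM n).i)

variable {M : X.Modules} (hM : Coh.IsQCoh M)

/-- The projection to the next cosyzygy. -/
noncomputable def stageπ (n : ℕ) : (stages hM n).E ⟶ (stages hM (n + 1)).M :=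
  cokernel.π (stages hM n).i

instance (n : ℕ) : Epi (stageπ hM n) := inferInstanceAs (Epi (cokernel.π (stages hM n).i))

theorem stage_w (n : ℕ) : (stages hM n).i ≫ stageπ hM n = 0 := cokernel.condition _

/-- The cosyzygy sequence. -/
theorem stage_shortExact (n : ℕ) :
    (ShortComplex.mk (stages hM n).i (stageπ hM n) (stage_w hM n)).ShortExact where
  exact := ShortComplex.exact_cokernel _
  mono_f := inferInstanceAs (Mono (stages hM n).i)
  epi_g := inferInstanceAs (Epi (stageπ hM n))

/-- The cochain complex of the resolution. -/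
noncomputable def resCx : CochainComplex X.Modules ℕ :=
  CochainComplex.of (fun n => (stages hM n).E) (fun n => stageπ hM n ≫ (stages hM (n + 1)).i)
    (fun n => by rw [Category.assoc, reassoc_of% (stage_w hM (n + 1)), zero_comp, comp_zero])

theorem resCx_d (n : ℕ) : (resCx hM).d n (n + 1) = stageπ hM n ≫ (stages hM (n + 1)).i := by
  simp [resCx]

theorem exact_mid (n : ℕ) {P : X.Modules} (g : P ⟶ (stages hM n).M) [Epi g] :
    (ShortComplex.mk (g ≫ (stages hM n).i) (stageπ hM n ≫ (stages hM (n + 1)).i)
      (by rw [Category.assoc, reassoc_of% (stage_w hM n), zero_comp, comp_zero])).Exact := by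
  let S₀ := ShortComplex.mk (g ≫ (stages hM n).i) (stageπ hM n)
    (by rw [Category.assoc, stage_w, comp_zero])
  let φ : S₀ ⟶ ShortComplex.mk (g ≫ (stages hM n).i) (stageπ hM n ≫ (stages hM (n + 1)).i)
      (by rw [Category.assoc, reassoc_of% (stage_w hM n), zero_comp, comp_zero]) :=
    { τ₁ := 𝟙 _, τ₂ := 𝟙 _, τ₃ := (stages hM (n + 1)).i }
  let ψ : S₀ ⟶ ShortComplex.mk (stages hM n).i (stageπ hM n) (stage_w hM n) :=
    { τ₁ := g, τ₂ := 𝟙 _, τ₃ := 𝟙 _ }
  haveI : Epi φ.τ₁ := inferInstanceAs (Epi (𝟙 _))
  haveI : IsIso φ.τ₂ := inferInstanceAs (IsIso (𝟙 _))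
  haveI : Mono φ.τ₃ := inferInstanceAs (Mono (stages hM (n + 1)).i)
  haveI : Epi ψ.τ₁ := ‹Epi g›
  haveI : IsIso ψ.τ₂ := inferInstanceAs (IsIso (𝟙 _))
  haveI : Mono ψ.τ₃ := inferInstanceAs (Mono (𝟙 _))
  exact (ShortComplex.exact_iff_of_epi_of_isIso_of_mono φ).1
    ((ShortComplex.exact_iff_of_epi_of_isIso_of_mono ψ).2 (stage_shortExact hM n).exact)

/-- The resolution of a quasi-coherent module by injective quasi-coherent modules. -/
noncomputable def resolution : InjectiveResolution M where
  cocomplex := resCx hM
  injective n := (stages hM n).inj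
  ι := ((resCx hM).fromSingle₀Equiv M).symm ⟨(stages hM 0).i, by
    rw [resCx_d, ← Category.assoc, stage_w, zero_comp]⟩
  quasiIso := ⟨fun n => by
    rcases n with _ | n
    · rw [CochainComplex.quasiIsoAt₀_iff, ShortComplex.quasiIso_iff_of_zeros]
      · refine (ShortComplex.exact_and_mono_f_iff_of_iso ?_).2
          ⟨exact_mid hM 0 (𝟙 M), show Mono (𝟙 M ≫ (stages hM 0).i) from inferInstance⟩
        exact ShortComplex.isoMk (Iso.refl _) (Iso.refl _) (Iso.refl _)
          (by dsimp; simp only [Category.id_comp, Category.comp_id]; exact ((resCx hM).fromSingle₀Equiv_symm_apply_f_zero _ _).symm) (by dsimp; simp [resCx_d])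
      all_goals rfl
    · rw [quasiIsoAt_iff_exactAt _ (n + 1) (HomologicalComplex.exactAt_single_obj _ _ _ _ (by simp)),
        HomologicalComplex.exactAt_iff' _ n (n + 1) (n + 1 + 1) (by simp) (by simp)]
      refine (ShortComplex.exact_iff_of_iso ?_).2 (exact_mid hM (n + 1) (stageπ hM n))
      exact ShortComplex.isoMk (Iso.refl _) (Iso.refl _) (Iso.refl _) (by dsimp; simp [resCx_d]) (by dsimp; simp [resCx_d])⟩

theorem resolution_qcoh (n : ℕ) : Coh.IsQCoh ((resolution hM).cocomplex.X n) := (stages hM n).qE

theorem stages_isZero {d : ℕ} (h : Injective (stages hM d).M) :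
    ∀ n, d < n → IsZero (stages hM n).M := by
  intro n hn
  induction n with
  | zero => omega
  | succ n ih =>
    haveI : Injective (stages hM n).M := by
      rcases eq_or_lt_of_le (show d ≤ n by omega) with rfl | h'
      · exact h
      · exact Injective.of_iso (ih h').isoZero.symm inferInstance
    haveI := (stages hM n).isIso this
    exact isZero_cokernel_of_epi (stages hM n).i

theorem resolution_isZero {d : ℕ} (h : Injective (stages hM d).M) (n : ℕ) (hn : d < n) :
    IsZero ((resolution hM).cocomplex.X n) := by
  haveI : Injective (stages hM n).M := Injective.of_iso (stages_isZero hM h n hn).isoZero.symm inferInstance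
  haveI := (stages hM n).isIso this
  exact (stages_isZero hM h n hn).of_iso (asIso (stages hM n).i).symm

end Groth.Agent.InjQC
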