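import Groth.Agent.InjQC.Converse

/-!
# Stalks of injective modules on locally Noetherian schemes are injective
-/

set_option linter.style.haveILetI false
set_option linter.unusedSectionVars false
set_option backward.isDefEq.respectTransparency false
set_option backward.isDefEq.respectTransparency.types false
set_option maxHeartbeats 1000000

universe u

open CategoryTheory CategoryTheory.Limits AlgebraicGeometry TopologicalSpace Opposite

namespace Groth.Agent.InjQC

open Groth.Agent

variable {X : Scheme.{u}}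

/-- Injective modules have extensions of compatible values on finitely many elements. -/
theorem exists_eq_smul {B N : Type u} [CommRing B] [AddCommGroup N] [Module B N] [Module.Injective B N]
    {n : ℕ} (y : Fin n → B) (s : Fin n → N) (h : ∀ b : Fin n → B, ∑ i, b i • y i = 0 → ∑ i, b i • s i = 0) :
    ∃ e : N, ∀ i, s i = y i • e := by
  let P := Fintype.linearCombination B y
  let Q := Fintype.linearCombination B s
  have hle : LinearMap.ker P ≤ LinearMap.ker Q := fun b hb => by
    rw [LinearMap.mem_ker, Fintype.linearCombination_apply] at hb ⊢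
    exact h b hb
  let ψ : LinearMap.range P →ₗ[B] N :=
    ((LinearMap.ker P).liftQ Q hle).comp P.quotKerEquivRange.symm.toLinearMap
  obtain ⟨χ, hχ⟩ := Module.Injective.out (LinearMap.range P).subtype (LinearMap.range P).subtype_injective ψ
  refine ⟨χ 1, fun i => ?_⟩
  classical
  have h1 := hχ ⟨P (Pi.single i 1), LinearMap.mem_range_self P _⟩
  have h2 : ψ ⟨P (Pi.single i 1), LinearMap.mem_range_self P _⟩ = Q (Pi.single i 1) := by
    show ((LinearMap.ker P).liftQ Q hle) (P.quotKerEquivRange.symm ⟨P (Pi.single i 1), _⟩) = _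
    rw [LinearMap.quotKerEquivRange_symm_apply_image]
    rfl
  rw [h2] at h1
  have hP : P (Pi.single i 1) = y i := by simp [P, Fintype.linearCombination_apply_single]
  have hQ : Q (Pi.single i 1) = s i := by simp [Q, Fintype.linearCombination_apply_single]
  rw [hQ] at h1
  change χ (P (Pi.single i 1)) = s i at h1
  rw [hP] at h1
  rw [← h1, ← map_smul, smul_eq_mul, mul_one]

theorem injective_stalk_of_injective [IsLocallyNoetherian X] (I : X.Modules) [Injective I] (x : X) :
    Module.Injective (X.presheaf.stalk x) (I.presheaf.stalk x) := by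
  classical
  refine Module.Baer.injective fun 𝔞 φ => ?_
  obtain ⟨_, ⟨V, hV, rfl⟩, hxV, -⟩ :=
    X.isBasis_affineOpens.exists_subset_of_mem_open (Set.mem_univ x) isOpen_univ
  let A := Γ(X, V)
  let O := X.presheaf.stalk x
  haveI : IsNoetherianRing A := IsLocallyNoetherian.component_noetherian ⟨V, hV⟩
  letI := QCoh.stalkAlg (X := X) hxV
  haveI := QCoh.isLocalization_stalk' hV hxV
  let S := (hV.primeIdealOf ⟨x, hxV⟩).asIdeal.primeCompl
  let I₀ : Ideal A := 𝔞.comap (algebraMap A O)
  obtain ⟨n, xs, hxs⟩ := Submodule.fg_iff_exists_fin_generating_family.1 (IsNoetherian.noetherian I₀)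
  have hmem : ∀ i, algebraMap A O (xs i) ∈ 𝔞 := fun i => by
    have : xs i ∈ I₀ := by rw [← hxs]; exact Submodule.subset_span ⟨i, rfl⟩
    exact this
  let v : Fin n → I.presheaf.stalk x := fun i => φ ⟨_, hmem i⟩
  choose Ws hWs s' hs' using fun i => I.presheaf.exists_germ_eq (v i)
  let K : Submodule A (Fin n → A) := LinearMap.ker (Fintype.linearCombination A xs)
  obtain ⟨ks, hks⟩ := IsNoetherian.noetherian K
  have hker : ∀ k ∈ K, ∑ i, algebraMap A O (k i) • v i = 0 := fun k hk => by
    have h0 : ∑ i, algebraMap A O (k i) * algebraMap A O (xs i) = 0 := by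
      rw [LinearMap.mem_ker, Fintype.linearCombination_apply] at hk
      rw [← map_zero (algebraMap A O), ← hk, map_sum]
      simp
    have h1 : ∑ i, algebraMap A O (k i) • v i =
        φ (∑ i, algebraMap A O (k i) • (⟨_, hmem i⟩ : 𝔞)) := by
      rw [map_sum]
      exact Finset.sum_congr rfl fun i _ => (φ.map_smul _ _).symm
    rw [h1, show (∑ i, algebraMap A O (k i) • (⟨_, hmem i⟩ : 𝔞)) = 0 from
      Subtype.ext ((Submodule.coe_sum _ _ _).trans h0), map_zero]
  let W₁ : X.Opens := (Finset.univ.inf Ws) ⊓ V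
  have hW₁ : x ∈ W₁ := by
    refine ⟨?_, hxV⟩
    have : ∀ t : Finset (Fin n), x ∈ t.inf Ws := fun t => by
      induction t using Finset.induction with
      | empty => exact trivial
      | insert i t _ ih => rw [Finset.inf_insert]; exact ⟨hWs i, ih⟩
    exact this _
  let t₁ : Fin n → Γ(I, W₁) := fun i =>
    AModX.res I (inf_le_left.trans (Finset.inf_le (Finset.mem_univ i))) (s' i)
  have ht₁ : ∀ i, I.presheaf.germ W₁ x hW₁ (t₁ i) = v i := fun i => (germ_res I _ hW₁ _).trans (hs' i)
  obtain ⟨W₂, hW₂, hks₂⟩ := exists_nhd ks x (fun k W => ∀ (W' : X.Opens) (h : W' ≤ W) (h' : W' ≤ W₁),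
      ∑ i, AModX.resR (h'.trans inf_le_right : W' ≤ V) (k i) • AModX.res I h' (t₁ i) = 0)
    (fun k W W' hle hP W'' h h' => hP W'' (h.trans hle) h') fun k hk => by
      have h0 : I.presheaf.germ W₁ x hW₁ (∑ i, AModX.resR (inf_le_right : W₁ ≤ V) (k i) • t₁ i) =
          I.presheaf.germ W₁ x hW₁ 0 := by
        rw [map_sum, map_zero]
        refine Eq.trans (Finset.sum_congr rfl fun i _ => ?_) (hker k (by rw [← hks]; exact Submodule.subset_span hk))
        rw [QCoh.germ_smul', germ_resR, ht₁]
        rfl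
      obtain ⟨W, hW, a, b, he⟩ := TopCat.Presheaf.germ_eq I.presheaf x hW₁ hW₁ _ _ h0
      refine ⟨W, hW, fun W' h h' => ?_⟩
      have h2 := congrArg (AModX.res I h) (show AModX.res I a.le
        (∑ i, AModX.resR (inf_le_right : W₁ ≤ V) (k i) • t₁ i) = AModX.res I b.le 0 from he)
      rw [map_zero, map_zero, AModX.res_res, map_sum] at h2
      refine Eq.trans (Finset.sum_congr rfl fun i _ => ?_) h2
      rw [AModX.res_smul, AModX.resR_resR]
  obtain ⟨f, hf, hxf⟩ := hV.exists_basicOpen_le (V := W₁ ⊓ W₂) ⟨x, (⟨hW₁, hW₂⟩ : x ∈ W₁ ⊓ W₂)⟩ hxV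
  let D := X.basicOpen f
  have hDV : D ≤ V := X.basicOpen_le f
  let B := Γ(X, D)
  let s : Fin n → Γ(I, D) := fun i => AModX.res I (hf.trans inf_le_left) (t₁ i)
  let y : Fin n → B := fun i => AModX.resR hDV (xs i)
  have hK : ∀ k ∈ K, ∑ i, AModX.resR hDV (k i) • s i = 0 := by
    intro k hk
    rw [← hks] at hk
    induction hk using Submodule.span_induction with
    | mem k hk => exact hks₂ k hk D (hf.trans inf_le_right) (hf.trans inf_le_left)
    | zero => simp
    | add k k' _ _ h h' => simp [add_smul, Finset.sum_add_distrib, h, h']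
    | smul r k _ h => simp [mul_smul, ← Finset.smul_sum, h]
  haveI := injective_sections_of_injective (F := I) (hV.basicOpen f)
  haveI := hV.isLocalization_basicOpen f
  obtain ⟨e, he⟩ := exists_eq_smul y s fun b hb => by
    obtain ⟨⟨c, hc⟩, hcb⟩ := IsLocalization.exist_integer_multiples_of_finite (Submonoid.powers f) b
    choose a ha using hcb
    have ha' : ∀ i, AModX.resR hDV (a i) = AModX.resR hDV c * b i := fun i => ha i
    have hcu : IsUnit (AModX.resR hDV c) := by
      obtain ⟨k, rfl⟩ := hc
      rw [map_pow]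
      exact (AModX.isUnit_resR hDV f le_rfl).pow k
    have h0 : AModX.resR hDV (∑ i, a i * xs i) = 0 := by
      rw [map_sum, ← mul_zero (AModX.resR hDV c), ← hb, Finset.mul_sum]
      exact Finset.sum_congr rfl fun i _ => by rw [map_mul, ha', smul_eq_mul, mul_assoc]
    obtain ⟨⟨g, hg⟩, hg'⟩ := (IsLocalization.map_eq_zero_iff (Submonoid.powers f) B _).1 h0
    have hgu : IsUnit (AModX.resR hDV g) := by
      obtain ⟨k, rfl⟩ := hg
      rw [map_pow]
      exact (AModX.isUnit_resR hDV f le_rfl).pow k
    have h3 := hK (fun i => g * a i) (by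
      rw [LinearMap.mem_ker, Fintype.linearCombination_apply, ← hg', Finset.mul_sum]
      exact Finset.sum_congr rfl fun i _ => mul_assoc g (a i) (xs i))
    simp only [map_mul, ha', mul_smul, ← Finset.smul_sum] at h3
    exact hcu.smul_eq_zero.1 (hgu.smul_eq_zero.1 h3)
  let L : O →ₗ[O] I.presheaf.stalk x := LinearMap.toSpanSingleton O _ (I.presheaf.germ D x hxf e)
  refine ⟨L, fun z hz => ?_⟩
  have hgen : ∀ i, L (algebraMap A O (xs i)) = φ ⟨_, hmem i⟩ := fun i => by
    show algebraMap A O (xs i) • I.presheaf.germ D x hxf e = v i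
    rw [← ht₁ i, ← germ_res I (hf.trans inf_le_left) hxf (t₁ i)]
    show _ = I.presheaf.germ D x hxf (s i)
    rw [he i, QCoh.germ_smul', germ_resR]
    rfl
  obtain ⟨⟨r, u⟩, hru⟩ := IsLocalization.surj S z
  have hr : r ∈ I₀ := by
    show algebraMap A O r ∈ 𝔞
    rw [← hru]
    exact 𝔞.mul_mem_right _ hz
  rw [← hxs] at hr
  obtain ⟨c, hc⟩ := (Submodule.mem_span_range_iff_exists_fun A).1 hr
  have hz' : algebraMap A O u.1 • (⟨z, hz⟩ : 𝔞) = ∑ i, algebraMap A O (c i) • ⟨_, hmem i⟩ := by
    refine Subtype.ext ?_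
    simp only [Submodule.coe_smul, Submodule.coe_sum, smul_eq_mul]
    rw [mul_comm, hru, ← hc, map_sum]
    simp only [smul_eq_mul, map_mul]
    rfl
  refine (IsLocalization.map_units O u).smul_left_cancel.1 ?_
  rw [← map_smul L, ← map_smul φ, hz', map_sum, smul_eq_mul,
    show algebraMap A O u.1 * z = ∑ i, algebraMap A O (c i) • algebraMap A O (xs i) by
      rw [mul_comm, hru, ← hc, map_sum]; simp only [smul_eq_mul, map_mul]; rfl,
    map_sum]
  exact Finset.sum_congr rfl fun i _ => by rw [map_smul, map_smul, hgen]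

end Groth.Agent.InjQC
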