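import Mathlib.CategoryTheory.Abelian.GrothendieckCategory.EnoughInjectives
import Mathlib.CategoryTheory.Abelian.GrothendieckAxioms.Basic
import Mathlib.CategoryTheory.Subobject.Limits
import Mathlib.CategoryTheory.Limits.Connected

/-!
# Injective hulls in Grothendieck abelian categories
-/

set_option autoImplicit false
set_option linter.style.haveILetI false
set_option linter.unusedSectionVars false

universe w v u

open CategoryTheory CategoryTheory.Limits

namespace Groth.Agent.InjQC

variable {A : Type u} [Category.{v} A] [Abelian A]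

/-- An essential monomorphism. -/
structure Ess {X Y : A} (f : X ⟶ Y) : Prop where
  mono : Mono f
  cancel : ∀ {Z : A} (g : Y ⟶ Z), Mono (f ≫ g) → Mono g

theorem Ess.id (X : A) : Ess (𝟙 X) := ⟨inferInstance, fun g h => by simpa using h⟩

theorem Ess.comp {X Y Z : A} {f : X ⟶ Y} {g : Y ⟶ Z} (hf : Ess f) (hg : Ess g) : Ess (f ≫ g) := by
  haveI := hf.mono
  haveI := hg.mono
  exact ⟨inferInstance, fun h hh => hg.cancel h (hf.cancel _ (by simpa using hh))⟩

theorem Ess.of_isIso {X Y : A} (f : X ⟶ Y) [IsIso f] : Ess f :=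
  ⟨inferInstance, fun {Z} g h => by
    haveI := h
    have : g = inv f ≫ (f ≫ g) := by simp
    rw [this]
    infer_instance⟩

variable [IsGrothendieckAbelian.{w} A]

/-- Directed unions of subobjects. -/
theorem exists_union {Y : A} {K : Type w} [Preorder K] [IsDirectedOrder K] [Nonempty K]
    (el : K → Subobject Y) (hel : Monotone el) :
    ∃ (S : Subobject Y) (h : ∀ k, el k ≤ S),
      ∀ {Z : A} (g : (S : A) ⟶ Z), (∀ k, Mono (Subobject.ofLE _ _ (h k) ≫ g)) → Mono g := by
  let F : K ⥤ MonoOver Y :=
    { obj := fun k => MonoOver.mk (el k).arrow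
      map := fun {k l} h => MonoOver.homMk (Subobject.ofLE _ _ (hel (leOfHom h)))
        (Subobject.ofLE_arrow _) }
  let G := F ⋙ MonoOver.forget _ ⋙ Over.forget _
  let cY : Cocone G := Cocone.mk Y
    { app := fun k => (el k).arrow
      naturality := fun {k l} h => (Subobject.ofLE_arrow _).trans (Category.comp_id _).symm }
  let ic : ∀ k : K, (el k : A) ⟶ colimit G := fun k => colimit.ι G k
  let fY : colimit G ⟶ Y := (colimit.isColimit G).desc cY
  have hfY : ∀ k : K, ic k ≫ fY = (el k).arrow := fun k => (colimit.isColimit G).fac cY k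
  have : Mono fY :=
    IsGrothendieckAbelian.mono_of_isColimit_monoOver F (colimit.isColimit G) fY fun k => hfY k
  have hle : ∀ k, el k ≤ Subobject.mk fY := fun k => Subobject.le_mk_of_comm (ic k) (hfY k)
  have hof : ∀ k, Subobject.ofLE _ _ (hle k) = ic k ≫ (Subobject.underlyingIso fY).inv := fun k => by
    rw [← cancel_mono (Subobject.mk fY).arrow, Subobject.ofLE_arrow]
    exact ((Category.assoc _ _ _).trans ((congrArg (fun z => ic k ≫ z)
      (Subobject.underlyingIso_arrow fY)).trans (hfY k))).symm
  refine ⟨Subobject.mk fY, hle, fun {Z} g hg => ?_⟩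
  let g' : colimit G ⟶ Z := (Subobject.underlyingIso fY).inv ≫ g
  have hk : ∀ k, Mono (ic k ≫ g') := fun k => by
    have := hg k
    rwa [hof k, Category.assoc] at this
  haveI := hk
  let F' : K ⥤ MonoOver Z :=
    { obj := fun k => MonoOver.mk (ic k ≫ g')
      map := fun {k l} h => MonoOver.homMk (Subobject.ofLE _ _ (hel (leOfHom h)))
        (by
          show Subobject.ofLE _ _ _ ≫ ic l ≫ g' = ic k ≫ g'
          rw [← Category.assoc]
          exact congrArg (· ≫ g') (colimit.w G h)) }
  have h' : Mono g' :=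
    IsGrothendieckAbelian.mono_of_isColimit_monoOver F' (colimit.isColimit G) g' fun k => rfl
  haveI := h'
  have : g = (Subobject.underlyingIso fY).hom ≫ g' := by simp [g']
  rw [this]
  infer_instance

/-- Directed unions of subobjects meeting a given subobject trivially. -/
theorem exists_union_disjoint {E Y : A} (i : E ⟶ Y) {K : Type w} [Preorder K] [IsDirectedOrder K]
    [Nonempty K] (el : K → Subobject Y) (hel : Monotone el)
    (h : ∀ k, Mono (i ≫ cokernel.π (el k).arrow)) :
    ∃ (S : Subobject Y), (∀ k, el k ≤ S) ∧ Mono (i ≫ cokernel.π S.arrow) := by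
  let Q : K ⥤ A :=
    { obj := fun k => cokernel (el k).arrow
      map := fun {k l} f => cokernel.desc _ (cokernel.π (el l).arrow)
        (by rw [← Subobject.ofLE_arrow (hel (leOfHom f)), Category.assoc, cokernel.condition, comp_zero])
      map_id := fun k => by ext; simp
      map_comp := fun f g => by ext; simp }
  let α : (Functor.const K).obj E ⟶ Q :=
    { app := fun k => i ≫ cokernel.π (el k).arrow
      naturality := fun {k l} f => by simp [Q] }
  have : ∀ k, Mono (α.app k) := h
  have : Mono α := NatTrans.mono_of_mono_app α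
  haveI : IsConnected K := IsFiltered.isConnected K
  have hm : Mono (colim.map α) := inferInstance
  let k₀ : K := Classical.arbitrary K
  let q : Y ⟶ colimit Q := cokernel.π (el k₀).arrow ≫ colimit.ι Q k₀
  have hq : ∀ k, cokernel.π (el k).arrow ≫ colimit.ι Q k = q := fun k => by
    obtain ⟨l, hl, hl₀⟩ := exists_ge_ge k k₀
    show _ = cokernel.π (el k₀).arrow ≫ colimit.ι Q k₀
    rw [← colimit.w Q (homOfLE hl), ← colimit.w Q (homOfLE hl₀)]
    simp [Q]
  refine ⟨kernelSubobject q, fun k => le_kernelSubobject _ _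
    (by rw [← hq k, ← Category.assoc, cokernel.condition, zero_comp]), ?_⟩
  have hiq : Mono (i ≫ q) := by
    have e : i ≫ q = colimit.ι ((Functor.const K).obj E) k₀ ≫ colim.map α := by
      simp [q, α]
    rw [e]
    haveI : IsIso (colimit.ι ((Functor.const K).obj E) k₀) := by
      have h0 := IsColimit.comp_coconePointUniqueUpToIso_hom
        (colimit.isColimit ((Functor.const K).obj E)) (isColimitConstCocone K E) k₀
      haveI : IsIso ((constCocone K E).ι.app k₀) := inferInstanceAs (IsIso (𝟙 E))
      exact IsIso.of_isIso_fac_right h0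
    infer_instance
  let d : cokernel (kernelSubobject q).arrow ⟶ colimit Q :=
    cokernel.desc _ q (kernelSubobject_arrow_comp q)
  have : i ≫ q = (i ≫ cokernel.π (kernelSubobject q).arrow) ≫ d := by simp [d]
  rw [this] at hiq
  exact mono_of_mono _ d

/-- Zorn's lemma for subobjects. -/
theorem exists_maximal_subobject {Y : A} (P : Subobject Y → Prop) (h0 : ∃ S, P S)
    (hP : ∀ {K : Type w} [Preorder K] [IsDirectedOrder K] [Nonempty K] (el : K → Subobject Y),
      Monotone el → (∀ k, P (el k)) → ∃ S, P S ∧ ∀ k, el k ≤ S) :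
    ∃ S, P S ∧ ∀ T, P T → S ≤ T → T ≤ S := by
  haveI : LocallySmall.{w} A := inferInstance
  let R := {S : Subobject Y // P S}
  haveI : Nonempty R := ⟨⟨h0.choose, h0.choose_spec⟩⟩
  have hchain : ∀ c : Set R, IsChain (fun a b : R => a.1 ≤ b.1) c → c.Nonempty → ∃ ub : R, ∀ a ∈ c, a.1 ≤ ub.1 := by
    intro c hc hne
    let el : Shrink.{w} c → Subobject Y := fun k => ((equivShrink c).symm k).1.1
    letI : Preorder (Shrink.{w} c) := Preorder.lift el
    haveI : Nonempty (Shrink.{w} c) := ⟨equivShrink c ⟨hne.choose, hne.choose_spec⟩⟩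
    haveI : IsDirectedOrder (Shrink.{w} c) := ⟨fun a b => by
      by_cases hab : ((equivShrink c).symm a).1 = ((equivShrink c).symm b).1
      · exact ⟨b, (congrArg Subtype.val hab).le, le_refl _⟩
      rcases hc ((equivShrink c).symm a).2 ((equivShrink c).symm b).2 hab with h | h
      · exact ⟨b, h, le_refl _⟩
      · exact ⟨a, le_refl _, h⟩⟩
    obtain ⟨S, hS, hle⟩ := hP el (fun _ _ h => h) fun k => ((equivShrink c).symm k).1.2
    refine ⟨⟨S, hS⟩, fun a ha => ?_⟩
    have := hle (equivShrink c ⟨a, ha⟩)
    simpa [el] using this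
  obtain ⟨⟨S, hS⟩, hmax⟩ := exists_maximal_of_nonempty_chains_bounded
    (r := fun a b : R => a.1 ≤ b.1) hchain (fun h h' => le_trans h h')
  exact ⟨S, hS, fun T hT hle => hmax ⟨T, hT⟩ hle⟩

/-- A monomorphism into an injective object factors as an essential monomorphism into an
injective object. -/
theorem exists_hull {J I : A} (f : J ⟶ I) [Mono f] [Injective I] :
    ∃ (E : A) (g : J ⟶ E), Ess g ∧ Injective E := by
  let P : Subobject I → Prop := fun S => ∃ b : J ⟶ (S : A), b ≫ S.arrow = f ∧ Ess b
  obtain ⟨E, ⟨b, hb, hess⟩, hmax⟩ := exists_maximal_subobject.{w} P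
    ⟨Subobject.mk f, (Subobject.underlyingIso f).inv, Subobject.underlyingIso_arrow f, Ess.of_isIso _⟩
    (fun {K} _ _ _ el hel hk => by
      obtain ⟨S, hle, hS⟩ := exists_union el hel
      let k₀ : K := Classical.arbitrary K
      obtain ⟨b₀, hb₀, -⟩ := hk k₀
      have hbS : (b₀ ≫ Subobject.ofLE _ _ (hle k₀)) ≫ S.arrow = f := by simp [hb₀]
      refine ⟨S, ⟨b₀ ≫ Subobject.ofLE _ _ (hle k₀), hbS,
        ⟨mono_of_mono_fac hbS, fun {Z} g hg => hS g fun k => ?_⟩⟩, hle⟩
      obtain ⟨bk, hbk, he⟩ := hk k
      refine he.cancel _ ?_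
      have e : bk ≫ Subobject.ofLE _ _ (hle k) = b₀ ≫ Subobject.ofLE _ _ (hle k₀) := by
        rw [← cancel_mono S.arrow]; simp [hbk, hb₀]
      rw [← Category.assoc, e]
      exact hg)
  obtain ⟨C, hC, hCmax⟩ := exists_maximal_subobject.{w}
    (fun S : Subobject I => Mono (E.arrow ≫ cokernel.π S.arrow))
    ⟨⊥, by
      haveI : IsIso (cokernel.π (⊥ : Subobject I).arrow) := by
        exact cokernel.π_of_zero Subobject.bot_arrow
      infer_instance⟩
    (fun {K} _ _ _ el hel hk => by
      obtain ⟨S, hle, hS⟩ := exists_union_disjoint E.arrow el hel hk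
      exact ⟨S, hS, hle⟩)
  haveI := hC
  let ip : (E : A) ⟶ cokernel C.arrow := E.arrow ≫ cokernel.π C.arrow
  have hip : Ess ip := ⟨hC, fun {Z} g hg => by
    let q : I ⟶ Z := cokernel.π C.arrow ≫ g
    have hle : C ≤ kernelSubobject q := le_kernelSubobject _ _ (by simp [q])
    have hP : Mono (E.arrow ≫ cokernel.π (kernelSubobject q).arrow) := by
      have h2 : Mono (E.arrow ≫ q) := by simpa [q, ip] using hg
      have e : E.arrow ≫ q = (E.arrow ≫ cokernel.π (kernelSubobject q).arrow) ≫
          cokernel.desc _ q (kernelSubobject_arrow_comp q) := by simp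
      rw [e] at h2
      exact mono_of_mono _ (cokernel.desc _ q (kernelSubobject_arrow_comp q))
    have hker := hCmax _ hP hle
    refine Preadditive.mono_of_cancel_zero _ fun {W} x hx => ?_
    obtain ⟨W', π, _, y, hy⟩ : ∃ (W' : A) (π : W' ⟶ W) (_ : Epi π) (y : W' ⟶ I),
        π ≫ x = y ≫ cokernel.π C.arrow :=
      ⟨pullback x (cokernel.π C.arrow), pullback.fst _ _, inferInstance, pullback.snd _ _,
        pullback.condition⟩
    have hy0 : y ≫ q = 0 := by simp only [q, ← Category.assoc, ← hy]; simp [hx]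
    have hfac : (kernelSubobject q).Factors y := (kernelSubobject_factors_iff _ _).2 hy0
    have hfac' : C.Factors y := Subobject.factors_of_le y hker hfac
    rw [← cancel_epi π, comp_zero, hy, ← C.factorThru_arrow y hfac', Category.assoc,
      cokernel.condition, comp_zero]⟩
  let h : cokernel C.arrow ⟶ I := Injective.factorThru E.arrow ip
  have hh : ip ≫ h = E.arrow := Injective.comp_factorThru _ _
  haveI : Mono h := hip.cancel h (by rw [hh]; infer_instance)
  have hT : P (Subobject.mk h) := ⟨b ≫ ip ≫ (Subobject.underlyingIso h).inv,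
    by simp [hh, hb], hess.comp (hip.comp (Ess.of_isIso _))⟩
  have hle : E ≤ Subobject.mk h := Subobject.le_mk_of_comm ip hh
  have hge := hmax _ hT hle
  let k : cokernel C.arrow ⟶ (E : A) := (Subobject.underlyingIso h).inv ≫ Subobject.ofLE _ _ hge
  have hk : k ≫ E.arrow = h := by simp [k]
  refine ⟨E, b, hess, ?_⟩
  have hret : E.arrow ≫ (cokernel.π C.arrow ≫ k) = 𝟙 (E : A) := by
    rw [← cancel_mono E.arrow]
    simp only [Category.assoc, hk, Category.id_comp]
    exact (Category.assoc _ _ _).symm.trans hh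
  exact ⟨fun {X Y} g φ _ => ⟨Injective.factorThru (g ≫ E.arrow) φ ≫ cokernel.π C.arrow ≫ k, by
    rw [← Category.assoc, Injective.comp_factorThru, Category.assoc, hret, Category.comp_id]⟩⟩

end Groth.Agent.InjQC
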