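import Groth.Agent.InjQC.Converse
import Groth.Agent.InjQC.Ess
import Groth.Agent.CycLib.StalkSES

/-!
# Injective objects of `QCoh` are injective modules on locally Noetherian schemes
-/

set_option linter.style.haveILetI false
set_option linter.unusedSectionVars false
set_option backward.isDefEq.respectTransparency false
set_option backward.isDefEq.respectTransparency.types false
set_option maxHeartbeats 1000000

universe u

open CategoryTheory CategoryTheory.Limits AlgebraicGeometry TopologicalSpace Opposite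
open scoped ZeroObject

namespace Groth.Agent.InjQC

open Groth.Agent

attribute [local instance] RingHomInvPair.of_ringEquiv in
/-- On a Noetherian affine scheme, `tilde` of an injective module is injective. -/
theorem injective_tilde {A : CommRingCat.{u}} [IsNoetherianRing A] (H : ModuleCat.{u} A)
    [Module.Injective A H] : Injective (tilde H) := by
  refine injective_of_sections (QCoh.isQCoh_spec_iff.2 ⟨H, ⟨Iso.refl _⟩⟩) fun x =>
    ⟨⊤, isAffineOpen_top _, trivial, ?_⟩
  haveI : Module.Injective A ((𝟭 (ModuleCat.{u} A)).obj H) := ‹Module.Injective A H›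
  haveI : Module.Injective A (moduleSpecΓFunctor.obj (tilde H)) :=
    LC.injective_of_linearEquiv ((tilde.toTildeΓNatIso (R := A)).app H).toLinearEquiv
  let e₁ : A ≃+* Γ(Spec A, ⊤) := (Scheme.ΓSpecIso A).symm.commRingCatIsoToRingEquiv
  let e₂ : moduleSpecΓFunctor.obj (tilde H) ≃ₛₗ[RingHomClass.toRingHom e₁] Γ(tilde H, ⊤) :=
    { toFun := fun z => z
      invFun := fun z => z
      left_inv := fun _ => rfl
      right_inv := fun _ => rfl
      map_add' := fun _ _ => rfl
      map_smul' := fun r z => by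
        have h := Scheme.Modules.smul_Spec_def (M := tilde H) (U := (⊤ : (Spec A).Opens)) r z
        rw [show (⊤ : (Spec A).Opens).leTop = 𝟙 _ from rfl, op_id, CategoryTheory.Functor.map_id] at h
        exact h }
  exact Module.Injective.of_ringEquiv e₁ e₂

variable {X : Scheme.{u}}

/-- Restrictions of essential monomorphisms to opens are essential. -/
theorem ess_restrict {U : Scheme.{u}} (j : U ⟶ X) [IsOpenImmersion j] {J E : X.Modules} {f : J ⟶ E}
    (hf : Ess f) : Ess ((Scheme.Modules.restrictFunctor j).map f) := by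
  haveI := hf.mono
  let R := Scheme.Modules.restrictFunctor j
  refine ⟨(inferInstance : Mono (R.map f)), fun {Z} g hg => ?_⟩
  let A := KFlatLib.lshAdj j
  let m : (KFlatLib.lsh j).obj (kernel g) ⟶ E := (A.homEquiv _ _).symm (kernel.ι g)
  have hu : A.unit.app _ ≫ R.map m = kernel.ι g := by
    exact (A.homEquiv_unit _ _ _).symm.trans ((A.homEquiv _ _).apply_symm_apply _)
  haveI : IsIso (A.unit.app (kernel g)) := inferInstance
  have hRm : R.map m = inv (A.unit.app _) ≫ kernel.ι g := by
    exact (IsIso.eq_inv_comp _).2 hu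
  haveI hmR : Mono (R.map m) := by rw [hRm]; exact mono_comp _ _
  haveI : Mono m := by
    refine LimMod.mono_of_stalks _ fun x => ?_
    by_cases hx : x ∈ Set.range j.base
    · obtain ⟨u, rfl⟩ := hx
      exact (ModuleCat.mono_iff_injective _).2 (KFlatLib.injective_stalk_of_restrict j _ u
        ((ModuleCat.mono_iff_injective _).1 (inferInstanceAs (Mono ((DerSch.stalkFunctor U u).map (R.map m))))))
    · exact ⟨fun _ _ _ => (KFlatLib.isZero_stalk_lsh j x hx _).eq_of_tgt _ _⟩
  have hm : Mono (cokernel.π m) := by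
    refine hf.cancel _ ?_
    let P := kernel (f ≫ cokernel.π m)
    let p : P ⟶ J := kernel.ι _
    have hp0 : (p ≫ f) ≫ cokernel.π m = 0 := by simp [p, P]
    let l : P ⟶ (KFlatLib.lsh j).obj (kernel g) := Abelian.monoLift m (p ≫ f) hp0
    have hl : l ≫ m = p ≫ f := Abelian.monoLift_comp m (p ≫ f) hp0
    haveI : Mono (p ≫ f) := mono_comp _ _
    haveI : Mono l := mono_of_mono_fac hl
    have hz : R.map p = 0 := by
      rw [← cancel_mono (R.map f ≫ g), zero_comp, ← Category.assoc, ← Functor.map_comp, ← hl,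
        Functor.map_comp, hRm, Category.assoc, Category.assoc, kernel.condition, comp_zero, comp_zero]
    haveI : Mono (R.map p) := inferInstance
    have hP : IsZero (R.obj P) := by
      rw [IsZero.iff_id_eq_zero, ← cancel_mono (R.map p), Category.id_comp, zero_comp, hz]
    have hPs : ∀ x ∉ Set.range j.base, IsZero ((DerSch.stalkFunctor X x).obj P) := fun x hx =>
      IsZero.of_mono ((DerSch.stalkFunctor X x).map l) (KFlatLib.isZero_stalk_lsh j x hx _)
    have hiso : IsIso (0 : P ⟶ P) :=
      KFlatLib.isIso_of_restrict_of_stalk j _ ⟨0, hP.eq_of_src _ _, hP.eq_of_src _ _⟩ hPs hPs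
    refine Preadditive.mono_of_kernel_zero ?_
    show p = 0
    rw [← cancel_epi (0 : P ⟶ P), zero_comp, zero_comp]
  have h0 : m = 0 := by rw [← cancel_mono (cokernel.π m), cokernel.condition, zero_comp]
  refine Preadditive.mono_of_kernel_zero ?_
  rw [← hu, h0, Functor.map_zero, comp_zero]

/-- An injective essential extension of a quasi-coherent module is quasi-coherent. -/
theorem isQCoh_of_ess [IsLocallyNoetherian X] {J E : X.Modules} (hJ : Coh.IsQCoh J) {f : J ⟶ E}
    (hf : Ess f) [Injective E] : Coh.IsQCoh E := by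
  refine QCoh.isQCoh_of_charts fun R j _ => ?_
  haveI : IsLocallyNoetherian (Spec R) := isLocallyNoetherian_of_isOpenImmersion j
  haveI : IsNoetherianRing R := by
    have := IsLocallyNoetherian.component_noetherian (X := Spec R) ⟨⊤, isAffineOpen_top _⟩
    exact isNoetherianRing_of_ringEquiv Γ(Spec R, ⊤) (Scheme.ΓSpecIso R).commRingCatIsoToRingEquiv
  haveI : Injective (E.restrict j) := ExtShX.isInjective_restrict j E
  obtain ⟨M, ⟨eM⟩⟩ := QCoh.isQCoh_spec_iff.1 (QCoh.isQCoh_restrict j hJ)
  obtain ⟨H, _, _, fM, hfM⟩ := LC.exists_injectiveHull R M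
  haveI := hfM.isInjective
  let H' : ModuleCat.{u} R := ModuleCat.of R H
  let a : M ⟶ H' := ModuleCat.ofHom fM
  haveI : Mono a := (ModuleCat.mono_iff_injective _).2 hfM.injective
  let T := tilde.functor R
  haveI : Injective (T.obj H') := injective_tilde H'
  let i : T.obj M ⟶ E.restrict j := eM.hom ≫ (Scheme.Modules.restrictFunctor j).map f
  have hi : Ess i := (Ess.of_isIso eM.hom).comp (ess_restrict j hf)
  haveI := hi.mono
  let u : E.restrict j ⟶ T.obj H' := Injective.factorThru (T.map a) i
  have hu : i ≫ u = T.map a := Injective.comp_factorThru _ _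
  haveI : Mono u := hi.cancel u (by rw [hu]; infer_instance)
  let r : T.obj H' ⟶ E.restrict j := Injective.factorThru (𝟙 _) u
  have hr : u ≫ r = 𝟙 _ := Injective.comp_factorThru _ _
  obtain ⟨π, hπ⟩ := T.map_surjective (r ≫ u)
  have hππ : π ≫ π = π := T.map_injective (by
    rw [Functor.map_comp, hπ, Category.assoc, reassoc_of% hr])
  have haπ : a ≫ π = a := T.map_injective (by
    rw [Functor.map_comp, hπ, ← hu, Category.assoc, reassoc_of% hr])
  haveI : Mono π := (ModuleCat.mono_iff_injective π).2 (LC.isEssentialInj_injective_of_comp hfM.toIsEssentialInj π.hom (by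
    have h := congrArg ModuleCat.Hom.hom haπ
    rw [ModuleCat.hom_comp] at h
    rw [show π.hom ∘ₗ fM = fM from h]
    exact hfM.injective))
  have hid : π = 𝟙 H' := by rw [← cancel_mono π, hππ, Category.id_comp]
  exact QCoh.isQCoh_spec_iff.2 ⟨H', ⟨⟨r, u, by rw [← hπ, hid, CategoryTheory.Functor.map_id], hr⟩⟩⟩

/-- Injective objects of the category of quasi-coherent modules are injective modules. -/
theorem injective_obj [IsLocallyNoetherian X]
    (J : ObjectProperty.FullSubcategory (fun M : X.Modules => Coh.IsQCoh M)) (hJ : Injective J) :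
    Injective J.obj := by
  obtain ⟨E, f, hf, hE⟩ := exists_hull.{u} (Injective.ι J.obj)
  haveI := hE
  haveI := hf.mono
  let E' : ObjectProperty.FullSubcategory (fun M : X.Modules => Coh.IsQCoh M) :=
    ⟨E, isQCoh_of_ess J.property hf⟩
  let f' : J ⟶ E' := ObjectProperty.homMk f
  haveI : Mono f' := (ObjectProperty.ι _).mono_of_mono_map (show Mono f from inferInstance)
  obtain ⟨r, hr⟩ := hJ.factors (𝟙 J) f'
  have hr' : f ≫ r.hom = 𝟙 J.obj := congrArg (fun g => g.hom) hr
  exact ⟨fun {A B} g φ _ => ⟨Injective.factorThru (g ≫ f) φ ≫ r.hom, by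
    rw [← Category.assoc, Injective.comp_factorThru, Category.assoc, hr', Category.comp_id]⟩⟩

/-- Injective modules are flasque. -/
theorem flasque_of_injective (I : X.Modules) [Injective I] {U V : X.Opens} (hUV : U ≤ V) :
    Function.Surjective (AModX.res I hUV) := by
  intro s
  let A := KFlatLib.lshAdj U.ι
  have hU : U.ι ''ᵁ ⊤ = U := by simp
  haveI : Mono (ExtShX.openIncl U) := by
    refine LimMod.mono_of_stalks _ fun x => ?_
    by_cases hx : x ∈ U
    · haveI := ExtShX.isIso_stalk_openIncl U x hx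
      infer_instance
    · exact ⟨fun _ _ _ => (KFlatLib.isZero_stalk_lsh U.ι x
        (fun h => hx (by rw [Scheme.Opens.range_ι] at h; exact h)) _).eq_of_tgt _ _⟩
  let e := KFlatLib.restrictStructureIso U.ι
  let w : Γ((U : Scheme.{u}), ⊤) := e.inv.app ⊤ (1 : Γ((U : Scheme.{u}), ⊤))
  let v : Γ((U : Scheme.{u}), ⊤) := e.hom.app ⊤ (1 : Γ((U : Scheme.{u}), ⊤))
  let t : Γ((Scheme.Modules.restrictFunctor U.ι).obj I, ⊤) := AModX.res I hU.le s
  let σ := (A.homEquiv _ _).symm (InvX.ofSect (X := (U : Scheme.{u})) (w • t))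
  let τ : Coh.structureModule X ⟶ I := Injective.factorThru σ (ExtShX.openIncl U)
  have hτ : ExtShX.openIncl U ≫ τ = σ := Injective.comp_factorThru _ _
  have h1 : e.inv ≫ (Scheme.Modules.restrictFunctor U.ι).map τ =
      InvX.ofSect (X := (U : Scheme.{u})) (w • t) := by
    have h := congrArg (A.homEquiv _ _) hτ
    rw [Adjunction.homEquiv_naturality_right, ExtShX.openIncl, Equiv.apply_symm_apply,
      Equiv.apply_symm_apply] at h
    exact h
  rw [Iso.inv_comp_eq] at h1
  have hvw : v * w = 1 := by
    have h := congrArg (fun q => q.app ⊤ (1 : Γ((U : Scheme.{u}), ⊤))) e.inv_hom_id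
    have h' := Scheme.Modules.Hom.app_smul e.hom (U := ⊤) w
      (show Γ((Scheme.Modules.restrictFunctor U.ι).obj (Coh.structureModule X), ⊤) from (1 : Γ((U : Scheme.{u}), ⊤)))
    rw [mul_comm]
    refine (h'.symm.trans ((congrArg (e.hom.app ⊤) ?_).trans h))
    show (U.ι.appIso ⊤).inv w * (1 : Γ(X, U.ι ''ᵁ ⊤)) = _
    rw [mul_one, Scheme.Opens.ι_appIso]
    rfl
  have h2 : τ.app (U.ι ''ᵁ ⊤) (1 : Γ(X, U.ι ''ᵁ ⊤)) = t := by
    have h := congrArg (fun q => q.app ⊤ (1 : Γ((U : Scheme.{u}), ⊤))) h1
    refine h.trans ?_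
    refine (InvX.app_eq_smul (InvX.ofSect (X := (U : Scheme.{u})) (w • t)) (W := ⊤) v).trans ?_
    rw [InvX.one_ofSect, AModX.res_self, smul_smul, hvw, one_smul]
  have h3 : AModX.res I (le_top : U.ι ''ᵁ ⊤ ≤ ⊤) (InvX.one τ) = t := by
    rw [InvX.one, ← AModX.app_res]
    refine Eq.trans (congrArg _ ?_) h2
    exact map_one (X.presheaf.map (homOfLE (le_top : U.ι ''ᵁ ⊤ ≤ ⊤)).op).hom
  have h4 := congrArg (AModX.res I hU.ge) h3
  rw [AModX.res_res] at h4
  refine ⟨AModX.res I le_top (InvX.one τ), ?_⟩
  rw [AModX.res_res]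
  refine h4.trans ?_
  show AModX.res I hU.ge (AModX.res I hU.le s) = s
  rw [AModX.res_res, AModX.res_self]

end Groth.Agent.InjQC
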