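import Groth.Agent.InjQC.SubcxFac

/-!
# `D⁻(B) ≃ D⁻_P(A)` for a functor onto a class with enough lifts
-/

set_option linter.style.haveILetI false
set_option linter.unusedSectionVars false
set_option backward.isDefEq.respectTransparency false
set_option backward.isDefEq.respectTransparency.types false
set_option maxHeartbeats 1000000

universe w w' v v' u u'

open CategoryTheory Category Limits DerivedCategory ZeroObject

namespace Groth.Agent.InjQC.SubcxMinus

open SubcxQP SubcxFac

variable {A : Type u} [Category.{v} A] [Abelian A] {B : Type u'} [Category.{v'} B] [Abelian B]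
  (F : B ⥤ A) [F.Additive] [PreservesFiniteLimits F] [PreservesFiniteColimits F] [F.Full] [F.Faithful]
  (P : ObjectProperty A) (ax : Ax P (⊤ : ObjectProperty A)) (him : Image F P)

/-- A null-homotopy in `A` between complexes from `B` is one in `B`. -/
noncomputable def liftHomotopy {M N : CochainComplex B ℤ} {f g : M ⟶ N}
    (h : Homotopy ((G F).map f) ((G F).map g)) : Homotopy f g where
  hom i j := F.preimage (h.hom i j)
  zero i j hij := F.map_injective (by rw [F.map_preimage, F.map_zero]; exact h.zero i j hij)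
  comm n := F.map_injective (by
    refine (h.comm n).trans ?_
    rw [F.map_add, F.map_add]
    congr 1
    congr 1
    · simp only [dNext, AddMonoidHom.mk'_apply, F.map_comp, F.map_preimage]
      rfl
    · simp only [prevD, AddMonoidHom.mk'_apply, F.map_comp, F.map_preimage]
      rfl)

include ax him in
lemma prop_of_iso {X Y : A} (e : X ≅ Y) (h : P X) : P Y := ax.quot e.hom h trivial

variable [HasDerivedCategory.{w} A] [HasDerivedCategory.{w'} B]

include ax him in
/-- Replace a complex by a bounded above complex from `B`. -/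
lemma refine_ (K : CochainComplex A ℤ) (b : ℤ) [K.IsLE b] (hH : ∀ n, P (K.homology n)) :
    ∃ (M : CochainComplex B ℤ) (t : (G F).obj M ⟶ K), M.IsStrictlyLE b ∧ QuasiIso t := by
  haveI : (0 : CochainComplex B ℤ).IsStrictlyLE b := (CochainComplex.isStrictlyLE_iff _ _).2 fun i _ =>
    (HomologicalComplex.eval B _ i).map_isZero (isZero_zero _)
  obtain ⟨C, j, -, hC, hj, -⟩ := refine_trunc F ax him K b (fun _ => trivial) hH 0 0
  exact ⟨C, j, hC, hj⟩

include ax him in
theorem exists_preimage (K : DerivedCategory A) (b : ℤ) (hK : K.IsLE b)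
    (hH : ∀ n : ℤ, P ((DerivedCategory.homologyFunctor A n).obj K)) :
    ∃ M : DerivedCategory B, M.IsLE b ∧ Nonempty (F.mapDerivedCategory.obj M ≅ K) := by
  obtain ⟨C, hC, ⟨e⟩⟩ := K.exists_iso_Q_obj_of_isLE b
  obtain ⟨M, t, hM, ht⟩ := refine_ F P ax him C b fun n => prop_of_iso F P ax him
    ((DerivedCategory.homologyFunctor A n).mapIso e ≪≫ (homologyFunctorFactors A n).app C) (hH n)
  have := (isIso_Q_map_iff_quasiIso (φ := t)).2 ht
  exact ⟨Q.obj M, inferInstance, ⟨F.mapDerivedCategoryFactors.app M ≪≫ asIso (Q.map t) ≪≫ e.symm⟩⟩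

include ax him in
theorem bijective_Q (M N : CochainComplex B ℤ) (b : ℤ) [M.IsStrictlyLE b] :
    Function.Bijective (fun φ : Q.obj M ⟶ Q.obj N => F.mapDerivedCategory.map φ) := by
  let G : CochainComplex B ℤ ⥤ CochainComplex A ℤ := G F
  let E := F.mapDerivedCategoryFactors
  have hG : (G.obj M).IsStrictlyLE b := (CochainComplex.isStrictlyLE_iff _ _).2 fun i hi =>
    F.map_isZero (M.isZero_of_isStrictlyLE b i hi)
  have hle : (G.obj M).IsLE b := inferInstance
  have leX : ∀ (X : CochainComplex A ℤ) (s : X ⟶ G.obj M), QuasiIso s →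
      X.IsLE b ∧ ∀ n, P (X.homology n) := fun X s hs => by
    refine ⟨(CochainComplex.isLE_iff X b).2 fun i hi => ?_, fun n => ?_⟩
    · exact (exactAt_iff_of_quasiIsoAt s i).2 ((G.obj M).exactAt_of_isLE b i hi)
    · have := (quasiIsoAt_iff_isIso_homologyMap s n).1 inferInstance
      exact prop_of_iso F P ax him (asIso (HomologicalComplex.homologyMap s n)).symm (homology_G F ax him M n)
  have key : ∀ φ : Q.obj M ⟶ Q.obj N, F.mapDerivedCategory.map φ = 0 → φ = 0 := by
    intro φ hφ
    obtain ⟨M', hM', s, hs, f, rfl⟩ := right_fac_of_isStrictlyLE φ b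
    have hf : Q.map (G.map f) = 0 := by
      have hs' : IsIso (F.mapDerivedCategory.map (Q.map s)) := inferInstance
      have h₁ : F.mapDerivedCategory.map (Q.map f) = 0 := by
        rw [Functor.map_comp, Functor.map_inv] at hφ
        rw [← cancel_epi (inv (F.mapDerivedCategory.map (Q.map s))), hφ, comp_zero]
      have h₂ := E.hom.naturality f
      rw [Functor.comp_map, h₁, zero_comp] at h₂
      rw [← cancel_epi (E.hom.app M'), comp_zero]
      exact h₂.symm
    have hle' : (G.obj M').IsStrictlyLE b := (CochainComplex.isStrictlyLE_iff _ _).2 fun i hi =>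
      F.map_isZero (M'.isZero_of_isStrictlyLE b i hi)
    have e' : Qh.map ((HomotopyCategory.quotient _ _).map (G.map f)) = Qh.map ((HomotopyCategory.quotient _ _).map 0) := by
      have h := NatIso.naturality_1 (quotientCompQhIso A).symm (G.map f)
      rw [hf] at h
      refine h.symm.trans ?_
      simp
    obtain ⟨X, t, ht, et⟩ := (MorphismProperty.map_eq_iff_precomp Qh (HomotopyCategory.quasiIso A _) _ _).1 e'
    obtain ⟨X, rfl⟩ := HomotopyCategory.quotient_obj_surjective X
    obtain ⟨t, rfl⟩ := (HomotopyCategory.quotient _ _).map_surjective t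
    have ht' : QuasiIso t := (HomotopyCategory.quotient_map_mem_quasiIso_iff t).1 ht
    obtain ⟨hX, hXH⟩ : CochainComplex.IsLE X b ∧ ∀ n, P (X.homology n) := by
      refine ⟨(CochainComplex.isLE_iff X b).2 fun i hi => (exactAt_iff_of_quasiIsoAt t i).2
        ((G.obj M').exactAt_of_isLE b i hi), fun n => ?_⟩
      have := (quasiIsoAt_iff_isIso_homologyMap t n).1 inferInstance
      exact prop_of_iso F P ax him (asIso (HomologicalComplex.homologyMap t n)).symm (homology_G F ax him M' n)
    obtain ⟨M'', r, _, hr⟩ := refine_ F P ax him X b hXH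
    obtain ⟨u, hu⟩ := G_map_surjective F (r ≫ t)
    have hu' : QuasiIso u := (quasiIso_G_iff F u).1 (hu ▸ inferInstance)
    have hz : Q.map (u ≫ f) = Q.map (0 : M'' ⟶ N) := by
      refine DerivedCategory.Q_map_eq_of_homotopy _ (liftHomotopy F (HomotopyCategory.homotopyOfEq _ _ ?_))
      rw [Functor.map_comp, hu, Functor.map_zero, Functor.map_comp, Functor.map_comp, assoc, et]
      simp
    have := (isIso_Q_map_iff_quasiIso (φ := u)).2 hu'
    rw [Functor.map_comp, Functor.map_zero] at hz
    rw [(cancel_epi (Q.map u)).1 (hz.trans comp_zero.symm), comp_zero]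
  refine ⟨fun φ ψ h => sub_eq_zero.1 (key _ ?_), fun φ => ?_⟩
  · rw [Functor.map_sub]; exact sub_eq_zero.2 h
  · obtain ⟨X, s, hs, g, e⟩ := right_fac ((E.app M).inv ≫ φ ≫ (E.app N).hom)
    have hs' := (isIso_Q_map_iff_quasiIso (φ := s)).1 hs
    obtain ⟨hX, hXH⟩ := leX X s hs'
    obtain ⟨M', r, _, hr⟩ := refine_ F P ax him X b hXH
    obtain ⟨u, hu⟩ := G_map_surjective F (r ≫ s)
    obtain ⟨f, hf⟩ := G_map_surjective F (r ≫ g)
    have : IsIso (Q.map u) := (isIso_Q_map_iff_quasiIso (φ := u)).2 ((quasiIso_G_iff F u).1 (hu ▸ inferInstance))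
    refine ⟨inv (Q.map u) ≫ Q.map f, ?_⟩
    show F.mapDerivedCategory.map _ = φ
    rw [Functor.map_comp, Functor.map_inv, IsIso.inv_comp_eq, ← cancel_mono (E.app N).hom]
    have h₁ := E.hom.naturality u
    have h₂ := E.hom.naturality f
    refine h₂.trans ?_
    have eφ : φ ≫ (E.app N).hom = (E.app M).hom ≫ inv (Q.map s) ≫ Q.map g := by
      rw [← e]; exact (Iso.hom_inv_id_assoc _ _).symm
    rw [assoc, eφ]
    refine Eq.trans ?_ ((congrArg (· ≫ _) h₁).symm.trans (assoc _ _ _))
    show E.hom.app M' ≫ Q.map (G.map f) = (E.hom.app M' ≫ Q.map (G.map u)) ≫ inv (Q.map s) ≫ Q.map g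
    rw [hu, hf, Q.map_comp, Q.map_comp]
    simp

include ax him in
theorem bijective (M N : DerivedCategory B) (b : ℤ) (hM : M.IsLE b) :
    Function.Bijective (fun φ : M ⟶ N => F.mapDerivedCategory.map φ) := by
  obtain ⟨CM, _, ⟨eM⟩⟩ := M.exists_iso_Q_obj_of_isLE b
  have := Localization.essSurj (Q (C := B)) (HomologicalComplex.quasiIso _ (ComplexShape.up ℤ))
  let eN := (Q.objObjPreimageIso N).symm
  have h : (fun φ : M ⟶ N => F.mapDerivedCategory.map φ) =
      ((F.mapDerivedCategory.mapIso eM).homCongr (F.mapDerivedCategory.mapIso eN)).symm ∘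
        (fun φ => F.mapDerivedCategory.map φ) ∘ eM.homCongr eN := by
    ext φ
    simp [← Functor.map_comp]
  rw [h]
  exact (Equiv.bijective _).comp ((bijective_Q F P ax him CM _ b).comp (Equiv.bijective _))

end Groth.Agent.InjQC.SubcxMinus
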