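import Groth.Agent.InjQC.CohExtend
import Groth.Agent.InjQC.SubcxMinus

/-!
# Derived categories of coherent modules
-/

set_option linter.style.haveILetI false
set_option linter.unusedSectionVars false
set_option backward.isDefEq.respectTransparency false
set_option backward.isDefEq.respectTransparency.types false
set_option maxHeartbeats 1000000

universe u

open CategoryTheory CategoryTheory.Limits AlgebraicGeometry
open scoped ZeroObject

attribute [local instance] HasDerivedCategory.standard

noncomputable section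

namespace Groth.Agent.InjQC

open Groth.Agent

variable {X : Scheme.{u}} [IsNoetherian X]
  [ObjectProperty.ContainsZero (fun M : X.Modules => Coh.IsCoh M)] [ObjectProperty.IsClosedUnderKernels (fun M : X.Modules => Coh.IsCoh M)]
  [ObjectProperty.IsClosedUnderCokernels (fun M : X.Modules => Coh.IsCoh M)] [ObjectProperty.IsClosedUnderFiniteProducts (fun M : X.Modules => Coh.IsCoh M)]


variable [PreservesFiniteLimits (ObjectProperty.ι (fun M : X.Modules => Coh.IsCoh M))] [PreservesFiniteColimits (ObjectProperty.ι (fun M : X.Modules => Coh.IsCoh M))]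

theorem coh_image : SubcxFac.Image (ObjectProperty.ι (fun M : X.Modules => Coh.IsCoh M)) (fun M : X.Modules => Coh.IsCoh M) :=
  ⟨fun b => b.property, fun a h => ⟨⟨a, h⟩, ⟨Iso.refl _⟩⟩⟩

theorem hasInjRes_coh (N' : CochainComplex (ObjectProperty.FullSubcategory (fun M : X.Modules => Coh.IsCoh M)) ℤ) (a b : ℤ) [N'.IsStrictlyGE a] [N'.IsLE b] :
    SubcxFac.HasInjRes (fun M : X.Modules => Coh.IsQCoh M) ((SubcxFac.G (ObjectProperty.ι (fun M : X.Modules => Coh.IsCoh M))).obj N') := by
  let M := (SubcxFac.G (ObjectProperty.ι (fun M : X.Modules => Coh.IsCoh M))).obj N'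
  haveI : M.IsStrictlyGE a := (CochainComplex.isStrictlyGE_iff _ _).2 fun i hi =>
    Functor.map_isZero (ObjectProperty.ι (fun M : X.Modules => Coh.IsCoh M)) (N'.isZero_of_isStrictlyGE a i hi)
  haveI : M.IsLE b := (CochainComplex.isLE_iff M b).2 fun i hi => by
    rw [HomologicalComplex.exactAt_iff_isZero_homology]
    exact (Functor.map_isZero (ObjectProperty.ι (fun M : X.Modules => Coh.IsCoh M)) (N'.exactAt_of_isLE b i hi).isZero_homology).of_iso
      ((N'.sc i).mapHomologyIso (ObjectProperty.ι (fun M : X.Modules => Coh.IsCoh M)))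
  have hc : DCoh.IsCohD (DerivedCategory.Q.obj M) := fun i =>
    KFlatLib.isCoh_of_iso ((DerivedCategory.homologyFunctorFactors X.Modules i).app M).symm
      (SubcxFac.homology_G (ObjectProperty.ι (fun M : X.Modules => Coh.IsCoh M)) coh_ax coh_image N' i)
  obtain ⟨I, a', ha', hi, hP, ⟨e⟩⟩ := rep_bounded (admissible_false (X := X)) (b - a).toNat a
    (DerivedCategory.Q.obj M) inferInstance
    (DerivedCategory.TStructure.t.isLE_of_le _ b _ (by omega)) (KFlatLib.isCohD_isQCohD hc)
  haveI := hi
  haveI : I.IsKInjective := CochainComplex.isKInjective_of_injective I a'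
  obtain ⟨u, hu⟩ := H9Misc.BddInjective.lift_to_injective e.hom
  refine ⟨I, u, a', ha', hi, fun n => (hP n).1, ?_⟩
  rw [← DerivedCategory.isIso_Q_map_iff_quasiIso, hu]
  infer_instance

theorem coh_bijective (M N : DerivedCategory (ObjectProperty.FullSubcategory (fun M : X.Modules => Coh.IsCoh M))) (a b : ℤ) (hM : M.IsLE b) [N.IsLE b] [N.IsGE a] :
    Function.Bijective (fun φ : M ⟶ N => (ObjectProperty.ι (fun M : X.Modules => Coh.IsCoh M)).mapDerivedCategory.map φ) :=
  SubcxFac.bijective (ObjectProperty.ι (fun M : X.Modules => Coh.IsCoh M)) coh_ax coh_image M N a b hM fun N' a' b' h₁ h₂ =>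
    haveI := h₁
    haveI := h₂
    hasInjRes_coh N' a' b'

theorem coh_exists_preimage (K : DCoh.D X) (a b : ℤ) (hKa : K.IsGE a) (hKb : K.IsLE b) (hK : DCoh.IsCohD K) :
    ∃ M : DerivedCategory (ObjectProperty.FullSubcategory (fun M : X.Modules => Coh.IsCoh M)), M.IsGE a ∧ M.IsLE b ∧ Nonempty ((ObjectProperty.ι (fun M : X.Modules => Coh.IsCoh M)).mapDerivedCategory.obj M ≅ K) := by
  haveI := hKa
  haveI := hKb
  obtain ⟨E, a', b', -, hb', hE, ⟨e⟩⟩ := exists_bounded_coh K a b hK
  haveI := hb'
  have hH : ∀ n, Coh.IsCoh (E.homology n) := H9LTCoh.isCoh_homology_of_terms E hE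
  obtain ⟨C, j, -, -, hj, -⟩ := SubcxFac.refine_containing (ObjectProperty.ι (fun M : X.Modules => Coh.IsCoh M)) coh_ax coh_image E b' (fun n => (hE n).1) hH
    (0 : CochainComplex (ObjectProperty.FullSubcategory (fun M : X.Modules => Coh.IsCoh M)) ℤ) 0
  haveI := hj
  let e' : (ObjectProperty.ι (fun M : X.Modules => Coh.IsCoh M)).mapDerivedCategory.obj (DerivedCategory.Q.obj C) ≅ K :=
    (ObjectProperty.ι (fun M : X.Modules => Coh.IsCoh M)).mapDerivedCategoryFactors.app C ≪≫ asIso (DerivedCategory.Q.map j) ≪≫ e.symm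
  refine ⟨DerivedCategory.Q.obj C, ?_, ?_, ⟨e'⟩⟩
  · rw [DerivedCategory.isGE_iff]
    intro i hi
    exact (SubcxFac.isZero_homology_iff (ObjectProperty.ι (fun M : X.Modules => Coh.IsCoh M)) coh_ax _ i).2
      ((DerivedCategory.isZero_of_isGE K a i hi).of_iso ((DerivedCategory.homologyFunctor X.Modules i).mapIso e'))
  · rw [DerivedCategory.isLE_iff]
    intro i hi
    exact (SubcxFac.isZero_homology_iff (ObjectProperty.ι (fun M : X.Modules => Coh.IsCoh M)) coh_ax _ i).2
      ((DerivedCategory.isZero_of_isLE K b i hi).of_iso ((DerivedCategory.homologyFunctor X.Modules i).mapIso e'))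

end Groth.Agent.InjQC
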