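import Mathlib.Algebra.Homology.Refinements
import Mathlib.Algebra.Homology.Embedding.CochainComplex
import Mathlib.Algebra.Homology.QuasiIso
import Mathlib.Algebra.Homology.Additive
import Mathlib.CategoryTheory.Abelian.SerreClass.Basic
import Mathlib.CategoryTheory.Abelian.Refinements
import Mathlib.CategoryTheory.Preadditive.AdditiveFunctor
import Mathlib.CategoryTheory.Subobject.Lattice

/-! Complexes with terms in a class `Q` and cohomology in a smaller class `P` contain quasi-isomorphic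
subcomplexes with terms in `P`. -/

universe v u

open CategoryTheory Category Limits ZeroObject

namespace Groth.Agent.InjQC.SubcxQP

/-- The hypotheses on the two classes. -/
structure Ax {A : Type u} [Category.{v} A] [Abelian A] (P Q : ObjectProperty A) : Prop where
  le : ∀ X, P X → Q X
  zero : ∀ X, IsZero X → P X
  ker : ∀ {X Y : A} (f : X ⟶ Y), Q X → Q Y → Q (kernel f)
  coker : ∀ {X Y : A} (f : X ⟶ Y), Q X → Q Y → Q (cokernel f)
  biprod : ∀ X Y, Q X → Q Y → Q (X ⊞ Y)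
  iso : ∀ {X Y : A}, (X ≅ Y) → Q X → Q Y
  sub : ∀ {X Y : A} (f : X ⟶ Y) [Mono f], Q X → P Y → P X
  quot : ∀ {X Y : A} (f : X ⟶ Y) [Epi f], P X → Q Y → P Y
  biprodP : ∀ X Y, P X → P Y → P (X ⊞ Y)
  lift : ∀ (X Y : A) (π : X ⟶ Y), Epi π → Q X → P Y → ∃ (X' : A) (i : X' ⟶ X), Mono i ∧ P X' ∧ Epi (i ≫ π)

namespace Ax

variable {A : Type u} [Category.{v} A] [Abelian A] {P Q : ObjectProperty A}

theorem image (ax : Ax P Q) {X Y : A} (f : X ⟶ Y) (hX : Q X) (hY : Q Y) : Q (Abelian.image f) :=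
  ax.ker _ hY (ax.coker f hX hY)

theorem pullback (ax : Ax P Q) {X Y Z : A} (f : X ⟶ Z) (g : Y ⟶ Z) (hX : Q X) (hY : Q Y) (hZ : Q Z) :
    Q (Limits.pullback f g) :=
  ax.iso (IsLimit.conePointUniqueUpToIso (Abelian.PullbackToBiproductIsKernel.isLimitPullbackToBiproduct f g)
    (limit.isLimit _)).symm (ax.ker _ (ax.biprod _ _ hX hY) hZ)

end Ax

variable {A : Type u} [Category.{v} A] [Abelian A] {P Q : ObjectProperty A} (ax : Ax P Q)
  (K : CochainComplex A ℤ) (hK : ∀ n, Q (K.X n)) (hH : ∀ n, P (K.homology n))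
  {Z : CochainComplex A ℤ} (φ : Z ⟶ K) (hZ : ∀ n, P (Z.X n))

/-- A term of the subcomplex in degree `n`. -/
structure Sub (P : ObjectProperty A) (n : ℤ) where
  X : A
  i : X ⟶ K.X n
  mono : Mono i
  mem : P X

attribute [instance] Sub.mono

@[reassoc]
lemma imgFac {X Y : A} (f : X ⟶ Y) : Abelian.factorThruImage f ≫ Abelian.image.ι f = f :=
  Abelian.image.fac f

/-- The conditions linking two consecutive terms. -/
def Good {P : ObjectProperty A} {n n' : ℤ} (S : Sub K P n') (T : Sub K P n) : Prop :=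
  (∃ e : T.X ⟶ S.X, e ≫ S.i = T.i ≫ K.d n n') ∧
  (∀ ⦃T₀ : A⦄ (y : T₀ ⟶ S.X) (z : T₀ ⟶ K.X n), y ≫ S.i = z ≫ K.d n n' →
    ∃ (T₁ : A) (π : T₁ ⟶ T₀) (_ : Epi π) (x : T₁ ⟶ T.X), π ≫ y ≫ S.i = x ≫ T.i ≫ K.d n n') ∧
  (∀ ⦃T₀ : A⦄ (z : T₀ ⟶ K.X n), z ≫ K.d n n' = 0 →
    ∃ (T₁ : A) (π : T₁ ⟶ T₀) (_ : Epi π) (x : T₁ ⟶ T.X) (_ : x ≫ T.i ≫ K.d n n' = 0)
      (c : T₁ ⟶ K.X (n - 1)), π ≫ z = x ≫ T.i + c ≫ K.d (n - 1) n)

include ax hK hH hZ in
lemma exists_good {n n' : ℤ} (h : n + 1 = n') (S : {S : Sub K P n' // ∃ z : Z.X n' ⟶ S.X, z ≫ S.i = φ.f n'}) :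
    ∃ T : {T : Sub K P n // ∃ z : Z.X n ⟶ T.X, z ≫ T.i = φ.f n}, Good K S.1 T.1 := by
  obtain ⟨S, zS, hzS⟩ := S
  let W := pullback (K.d n n') S.i
  let p : W ⟶ S.X := pullback.snd _ _
  have hW : Q W := ax.pullback _ _ (hK n) (ax.le _ S.mem) (hK n')
  have hcyc : Q (K.cycles n) := ax.iso
    (IsLimit.conePointUniqueUpToIso (K.cyclesIsKernel n n' (by simp [h])) (kernelIsKernel _)).symm
    (ax.ker _ (hK n) (hK n'))
  obtain ⟨X₁', i₁', hi₁, hX₁', hep₁'⟩ := ax.lift W (Abelian.image p) (Abelian.factorThruImage p)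
    inferInstance hW (ax.sub (Abelian.image.ι p) (ax.image p hW (ax.le _ S.mem)) S.mem)
  let w : Z.X n ⟶ W := pullback.lift (φ.f n) (Z.d n n' ≫ zS) (by rw [assoc, hzS, φ.comm n n'])
  let X₁ := X₁' ⊞ Z.X n
  let i₁ : X₁ ⟶ W := biprod.desc i₁' w
  have hX₁ : P X₁ := ax.biprodP _ _ hX₁' (hZ n)
  haveI hep₁ : Epi (i₁ ≫ Abelian.factorThruImage p) :=
    haveI := hep₁'
    epi_of_epi_fac (show biprod.inl ≫ i₁ ≫ Abelian.factorThruImage p = i₁' ≫ Abelian.factorThruImage p by simp [i₁])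
  obtain ⟨X₂, i₂, hi₂, hX₂, hep₂⟩ := ax.lift _ _ (K.homologyπ n) inferInstance hcyc (hH n)
  let j₂ : X₂ ⟶ W := pullback.lift (i₂ ≫ K.iCycles n) 0 (by simp)
  have hj₂ : j₂ ≫ pullback.fst (K.d n n') S.i = i₂ ≫ K.iCycles n := pullback.lift_fst _ _ _
  let q : X₁ ⊞ X₂ ⟶ W := biprod.desc i₁ j₂
  let T : Sub K P n :=
    { X := Abelian.image q
      i := Abelian.image.ι q ≫ pullback.fst _ _
      mono := inferInstance
      mem := ax.quot (Abelian.factorThruImage q) (ax.biprodP _ _ hX₁ hX₂)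
        (ax.image q (ax.biprod _ _ (ax.le _ hX₁) (ax.le _ hX₂)) hW) }
  refine ⟨⟨T, biprod.inr ≫ biprod.inl ≫ Abelian.factorThruImage q, by
      simp [T, q, i₁, w, X₁, imgFac_assoc]
      exact pullback.lift_fst _ _ _⟩, ⟨Abelian.image.ι q ≫ p, ?_⟩, fun T₀ y z hyz => ?_, fun T₀ z hz => ?_⟩
  · show (_ ≫ pullback.snd _ _) ≫ _ = (_ ≫ pullback.fst _ _) ≫ _
    simp only [assoc, pullback.condition]
  · obtain ⟨T₁, π, hπ, x, hx⟩ := surjective_up_to_refinements_of_epi (i₁ ≫ Abelian.factorThruImage p)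
      (pullback.lift z y hyz.symm ≫ Abelian.factorThruImage p)
    refine ⟨T₁, π, hπ, x ≫ biprod.inl ≫ Abelian.factorThruImage q, ?_⟩
    have e := congrArg (· ≫ Abelian.image.ι p ≫ S.i) hx
    simp only [assoc, imgFac_assoc] at e
    simp only [pullback.lift_snd_assoc, p] at e
    simp [T, q, imgFac_assoc, pullback.condition, e]
  · obtain ⟨T₁, π, hπ, x, hx⟩ := surjective_up_to_refinements_of_epi (i₂ ≫ K.homologyπ n)
      (K.liftCycles z n' (by simp [h]) hz ≫ K.homologyπ n)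
    have e : (π ≫ K.liftCycles z n' (by simp [h]) hz) ≫ K.homologyπ n =
        (x ≫ i₂) ≫ K.homologyπ n := by simpa using hx
    obtain ⟨T₂, π', hπ', c, hc⟩ :=
      (K.comp_homologyπ_eq_iff_up_to_refinements (n - 1) n (by simp) _ _).1 e
    refine ⟨T₂, π' ≫ π, inferInstance, π' ≫ x ≫ biprod.inr ≫ Abelian.factorThruImage q, ?_, c, ?_⟩
    · simp [T, q, imgFac_assoc, reassoc_of% hj₂]
    · have := congrArg (· ≫ K.iCycles n) hc
      simp at this
      simp [T, q, imgFac_assoc, hj₂, this]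

variable (b : ℤ) [K.IsStrictlyLE b]

/-- The family of approximations. -/
noncomputable def fam : ∀ (k : ℕ) (n : ℤ), b < n + k → {T : Sub K P n // ∃ z : Z.X n ⟶ T.X, z ≫ T.i = φ.f n}
  | 0, n, h => ⟨{ X := 0, i := 0, mono := ⟨fun _ _ _ => (isZero_zero A).eq_of_tgt _ _⟩,
                  mem := ax.zero _ (isZero_zero A) },
      0, (K.isZero_of_isStrictlyLE b n (by omega)).eq_of_tgt _ _⟩
  | k + 1, n, h => (exists_good ax K hK hH φ hZ (rfl : n + 1 = n + 1) (fam k (n + 1) (by omega))).choose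

/-- The chosen term in degree `n`. -/
noncomputable def term (n : ℤ) : Sub K P n := (fam ax K hK hH φ hZ b (Int.toNat (b + 1 - n)) n (by omega)).1

lemma fam_congr {k k' : ℕ} (hk : k = k') (n : ℤ) (h : b < n + k) (h' : b < n + k') :
    fam ax K hK hH φ hZ b k n h = fam ax K hK hH φ hZ b k' n h' := by
  subst hk; rfl

lemma good_term (n : ℤ) : Good K (term ax K hK hH φ hZ b (n + 1)) (term ax K hK hH φ hZ b n) := by
  by_cases hn : n ≤ b
  · have e : Int.toNat (b + 1 - n) = Int.toNat (b + 1 - (n + 1)) + 1 := by omega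
    unfold term
    rw [fam_congr ax K hK hH φ hZ b e n _ (by omega)]
    exact (exists_good ax K hK hH φ hZ (rfl : n + 1 = n + 1) (fam ax K hK hH φ hZ b _ (n + 1) _)).choose_spec
  · have hz := K.isZero_of_isStrictlyLE b n (by omega)
    have hz' := K.isZero_of_isStrictlyLE b (n + 1) (by omega)
    refine ⟨⟨0, hz'.eq_of_tgt _ _⟩, fun T₀ y z _ => ⟨T₀, 𝟙 _, inferInstance, 0, hz'.eq_of_tgt _ _⟩,
      fun T₀ z _ => ⟨T₀, 𝟙 _, inferInstance, 0, by simp, 0, hz.eq_of_tgt _ _⟩⟩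

lemma term_fac (n : ℤ) : ∃ z : Z.X n ⟶ (term ax K hK hH φ hZ b n).X, z ≫ (term ax K hK hH φ hZ b n).i = φ.f n :=
  (fam ax K hK hH φ hZ b (Int.toNat (b + 1 - n)) n (by omega)).2

/-- The subcomplex. -/
noncomputable def subcx : CochainComplex P.FullSubcategory ℤ :=
  CochainComplex.of (fun n => ⟨(term ax K hK hH φ hZ b n).X, (term ax K hK hH φ hZ b n).mem⟩)
    (fun n => ObjectProperty.homMk (good_term ax K hK hH φ hZ b n).1.choose)
    (fun n => by
      apply ObjectProperty.hom_ext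
      have e₁ := (good_term ax K hK hH φ hZ b n).1.choose_spec
      have e₂ := (good_term ax K hK hH φ hZ b (n + 1)).1.choose_spec
      show (good_term ax K hK hH φ hZ b n).1.choose ≫ (good_term ax K hK hH φ hZ b (n + 1)).1.choose = 0
      rw [← cancel_mono (term ax K hK hH φ hZ b (n + 1 + 1)).i, assoc, e₂, reassoc_of% e₁, K.d_comp_d,
        comp_zero, zero_comp])

instance : (subcx ax K hK hH φ hZ b).IsStrictlyLE b := by
  rw [CochainComplex.isStrictlyLE_iff]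
  intro n hn
  rw [IsZero.iff_id_eq_zero]
  apply ObjectProperty.hom_ext
  show 𝟙 (term ax K hK hH φ hZ b n).X = 0
  rw [← cancel_mono (term ax K hK hH φ hZ b n).i]
  exact (K.isZero_of_isStrictlyLE b n hn).eq_of_tgt _ _

/-- The inclusion of the subcomplex. -/
noncomputable def inclusion :
    (P.ι.mapHomologicalComplex (ComplexShape.up ℤ)).obj (subcx ax K hK hH φ hZ b) ⟶ K where
  f n := (term ax K hK hH φ hZ b n).i
  comm' n m h := by
    obtain rfl : n + 1 = m := h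
    refine (good_term ax K hK hH φ hZ b n).1.choose_spec.symm.trans ?_
    simp [subcx]
    rfl

theorem quasiIso_inclusion : QuasiIso (inclusion ax K hK hH φ hZ b) := by
  refine ⟨fun n => ?_⟩
  rw [quasiIsoAt_iff_isIso_homologyMap]
  have hd : ∀ m, ((P.ι.mapHomologicalComplex (ComplexShape.up ℤ)).obj (subcx ax K hK hH φ hZ b)).d m (m + 1) ≫
      (term ax K hK hH φ hZ b (m + 1)).i = (term ax K hK hH φ hZ b m).i ≫ K.d m (m + 1) := fun m =>
    ((inclusion ax K hK hH φ hZ b).comm m (m + 1)).symm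
  have : Mono (HomologicalComplex.homologyMap (inclusion ax K hK hH φ hZ b) n) := by
    obtain ⟨m, rfl⟩ : ∃ m, n = m + 1 := ⟨n - 1, by omega⟩
    rw [HomologicalComplex.mono_homologyMap_iff_up_to_refinements _ m (m + 1) (m + 1 + 1) (by simp) (by simp)]
    intro T₀ x₂ _ z hz
    obtain ⟨T₁, π, hπ, x, hx⟩ := (good_term ax K hK hH φ hZ b m).2.1 x₂ z hz
    refine ⟨T₁, π, hπ, x, ?_⟩
    refine (cancel_mono (term ax K hK hH φ hZ b (m + 1)).i).1 ?_
    exact (assoc _ _ _).trans (hx.trans ((congrArg (x ≫ ·) (hd m)).symm.trans (assoc _ _ _).symm))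
  have : Epi (HomologicalComplex.homologyMap (inclusion ax K hK hH φ hZ b) n) := by
    rw [HomologicalComplex.epi_homologyMap_iff_up_to_refinements _ (n - 1) n (n + 1) (by simp) (by simp)]
    intro T₀ y₂ hy
    obtain ⟨T₁, π, hπ, x, hx, c, hc⟩ := (good_term ax K hK hH φ hZ b n).2.2 y₂ hy
    refine ⟨T₁, π, hπ, x, ?_, c, hc⟩
    refine (cancel_mono (term ax K hK hH φ hZ b (n + 1)).i).1 (Eq.trans ?_ zero_comp.symm)
    exact (assoc _ _ _).trans ((congrArg (x ≫ ·) (hd n)).trans hx)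
  exact isIso_of_mono_of_epi _

/-- The given morphism factors through the subcomplex. -/
theorem exists_factor :
    ∃ z : Z ⟶ (P.ι.mapHomologicalComplex (ComplexShape.up ℤ)).obj (subcx ax K hK hH φ hZ b),
      z ≫ inclusion ax K hK hH φ hZ b = φ := by
  refine ⟨{ f := fun n => (term_fac ax K hK hH φ hZ b n).choose, comm' := fun n m h => ?_ },
    HomologicalComplex.hom_ext _ _ fun n => (term_fac ax K hK hH φ hZ b n).choose_spec⟩
  refine (cancel_mono (term ax K hK hH φ hZ b m).i).1 ?_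
  have h1 : ((P.ι.mapHomologicalComplex (ComplexShape.up ℤ)).obj (subcx ax K hK hH φ hZ b)).d n m ≫
      (term ax K hK hH φ hZ b m).i = (term ax K hK hH φ hZ b n).i ≫ K.d n m :=
    ((inclusion ax K hK hH φ hZ b).comm n m).symm
  refine (assoc _ _ _).trans (Eq.trans ?_ (assoc _ _ _).symm)
  refine (congrArg (_ ≫ ·) h1).trans ?_
  refine ((assoc _ _ _).symm.trans (congrArg (· ≫ K.d n m) (term_fac ax K hK hH φ hZ b n).choose_spec)).trans ?_
  rw [(term_fac ax K hK hH φ hZ b m).choose_spec]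
  exact φ.comm n m

end Groth.Agent.InjQC.SubcxQP
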