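import Groth.Agent.InjQC.BoundedRep
import Groth.Agent.InjQC.SubcxQP
import Groth.Agent.FibDimOne.QC
import Groth.Agent.QCoh.Support
import Groth.Agent.QCoh.SubCompare
import Groth.Agent.H9LTCoh.Basic

/-!
# Bounded coherent objects: complexes of coherent modules, and extension from opens
-/

set_option linter.style.haveILetI false
set_option linter.unusedSectionVars false
set_option backward.isDefEq.respectTransparency false
set_option backward.isDefEq.respectTransparency.types false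
set_option maxHeartbeats 1000000

universe u

open CategoryTheory CategoryTheory.Limits AlgebraicGeometry TopologicalSpace Opposite
open scoped ZeroObject

attribute [local instance] HasDerivedCategory.standard

noncomputable section

namespace Groth.Agent.InjQC

open Groth.Agent

variable {X : Scheme.{u}} [IsNoetherian X]

/-- Coherent modules lift along epimorphisms of quasi-coherent modules. -/
theorem exists_coh_lift {P Y : X.Modules} (π : P ⟶ Y) [Epi π] (hP : Coh.IsQCoh P) (hY : Coh.IsCoh Y) :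
    ∃ (G : X.Modules) (i : G ⟶ P), Mono i ∧ Coh.IsCoh G ∧ Epi (i ≫ π) := by
  classical
  obtain ⟨S, hS⟩ := isCompact_univ.elim_finite_subcover (fun V : X.affineOpens => (V.1 : Set X))
    (fun V => V.1.2) fun x _ => by
      obtain ⟨_, ⟨V, hV, rfl⟩, hxV, -⟩ := X.isBasis_affineOpens.exists_subset_of_mem_open
        (Set.mem_univ x) isOpen_univ
      exact Set.mem_iUnion.2 ⟨⟨V, hV⟩, hxV⟩
  have hfin : ∀ V : S, (⊤ : Submodule Γ(X, V.1.1) Γ(Y, V.1.1)).FG := fun V =>
    (QCoh.finite_of_isFT hY.1 hY.2 V.1.2).fg_top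
  choose T hT using hfin
  let κ := Σ V : S, {t : Γ(Y, V.1.1) // t ∈ T V}
  choose p hp using fun j : κ => QCoh.app_surjective_of_epi hP hY.1 π j.1.1.2 j.2.1
  obtain ⟨G, i, hG, hi, hg⟩ := FibDimOne.exists_coh_family hP (fun j : κ => j.1.1.1) (fun j => j.1.1.2) p
  have hQ : Coh.IsQCoh (cokernel (i ≫ π)) := QCoh.isQCoh_cokernel hG.1 hY.1 _
  refine ⟨G, i, hi, hG, Abelian.epi_of_cokernel_π_eq_zero _ ?_⟩
  refine QCoh.hom_eq_zero_of_cover hY.1 hQ _ (fun V : S => V.1.1) (fun V => V.1.2)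
    (fun x => by
      obtain ⟨V, hV, hxV⟩ := Set.mem_iUnion₂.1 (hS (Set.mem_univ x))
      exact ⟨⟨V, hV⟩, hxV⟩) fun V y => ?_
  have hle : (⊤ : Submodule Γ(X, V.1.1) Γ(Y, V.1.1)) ≤
      LinearMap.ker (QCoh.appLin (cokernel.π (i ≫ π)) V.1.1) := by
    rw [← hT V, Submodule.span_le]
    intro t ht
    obtain ⟨g, hg'⟩ := hg ⟨V, t, ht⟩
    show (cokernel.π (i ≫ π)).app _ t = 0
    have h := congr(($(cokernel.condition (i ≫ π))).app V.1.1 g)
    refine (congrArg _ (hp ⟨V, t, ht⟩).symm).trans ?_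
    refine (congrArg (fun q => (cokernel.π (i ≫ π)).app _ (π.app _ q)) hg'.symm).trans ?_
    exact h
  exact hle (Submodule.mem_top (x := y))

theorem coh_ax : SubcxQP.Ax (A := X.Modules) (fun M => Coh.IsCoh M) (fun M => Coh.IsQCoh M) where
  le _ h := h.1
  zero _ h := KFlatLib.isCoh_of_isZero h
  ker f hX hY := QCoh.isQCoh_kernel hX hY f
  coker f hX hY := QCoh.isQCoh_cokernel hX hY f
  biprod _ _ hX hY := isQCoh_biprod hX hY
  iso e h := KFlatLib.isQCoh_of_iso e h
  sub f _ hX hY := QCoh.isCoh_of_mono f hY hX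
  quot f _ hX hY := QCoh.isCoh_of_epi f hX hY
  biprodP _ _ hX hY := KZ.isCoh_biprod hX hY
  lift _ _ π hπ hX hY := exists_coh_lift π hX hY

/-- Bounded objects with coherent cohomology are bounded above complexes of coherent modules, vanishing
in small degrees. -/
theorem exists_bounded_coh (K : DCoh.D X) (a b : ℤ) [K.IsGE a] [K.IsLE b] (hK : DCoh.IsCohD K) :
    ∃ (E : CochainComplex X.Modules ℤ) (a' b' : ℤ), E.IsStrictlyGE a' ∧ E.IsStrictlyLE b' ∧
      (∀ n, Coh.IsCoh (E.X n)) ∧ Nonempty (K ≅ DerivedCategory.Q.obj E) := by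
  obtain ⟨Q, a', b', ha', hb', hQ, ⟨e⟩⟩ := exists_bounded_qcoh K a b (KFlatLib.isCohD_isQCohD hK)
  haveI := ha'
  haveI := hb'
  have hH : ∀ n, Coh.IsCoh (Q.homology n) := fun n =>
    KFlatLib.isCoh_of_iso ((DerivedCategory.homologyFunctorFactors X.Modules n).app Q)
      (KFlatLib.isCohD_of_iso e hK n)
  let P : ObjectProperty X.Modules := fun M => Coh.IsCoh M
  have hZ : ∀ n, Coh.IsCoh ((0 : CochainComplex X.Modules ℤ).X n) := fun n =>
    KFlatLib.isCoh_of_isZero ((HomologicalComplex.eval X.Modules _ n).map_isZero (isZero_zero _))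
  let E := ((ObjectProperty.ι P).mapHomologicalComplex (ComplexShape.up ℤ)).obj
    (SubcxQP.subcx coh_ax Q hQ hH (0 : (0 : CochainComplex X.Modules ℤ) ⟶ Q) hZ b')
  let ι : E ⟶ Q := SubcxQP.inclusion coh_ax Q hQ hH (0 : (0 : CochainComplex X.Modules ℤ) ⟶ Q) hZ b'
  haveI : QuasiIso ι := SubcxQP.quasiIso_inclusion coh_ax Q hQ hH (0 : (0 : CochainComplex X.Modules ℤ) ⟶ Q) hZ b'
  haveI : ∀ n, Mono (ι.f n) := fun n => (SubcxQP.term coh_ax Q hQ hH (0 : (0 : CochainComplex X.Modules ℤ) ⟶ Q) hZ b' n).mono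
  refine ⟨E, a', b', ?_, ?_, fun n => (SubcxQP.term coh_ax Q hQ hH (0 : (0 : CochainComplex X.Modules ℤ) ⟶ Q) hZ b' n).mem,
    ⟨e ≪≫ (asIso (DerivedCategory.Q.map ι)).symm⟩⟩
  · exact (CochainComplex.isStrictlyGE_iff _ _).2 fun n hn =>
      IsZero.of_mono (ι.f n) (Q.isZero_of_isStrictlyGE a' n hn)
  · exact (CochainComplex.isStrictlyLE_iff _ _).2 fun n hn =>
      IsZero.of_mono (ι.f n) (Q.isZero_of_isStrictlyLE b' n hn)

section extend

variable (U : X.Opens)

/-- A coherent submodule of a term whose restriction is the whole term. -/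
structure ExtSub (J : CochainComplex X.Modules ℤ) (n : ℤ) where
  X' : X.Modules
  i : X' ⟶ J.X n
  mono : Mono i
  coh : Coh.IsCoh X'
  iso : IsIso ((Scheme.Modules.restrictFunctor U.ι).map i)

attribute [instance] ExtSub.mono ExtSub.iso

variable {U} {J : CochainComplex X.Modules ℤ} (hJ : ∀ n, Coh.IsQCoh (J.X n))
  (hJU : ∀ n, Coh.IsCoh ((Scheme.Modules.restrictFunctor U.ι).obj (J.X n)))

include hJ hJU in
theorem exists_extSub {n n' : ℤ} (S : ExtSub U J n') :
    ∃ T : ExtSub U J n, ∃ e : T.X' ⟶ S.X', e ≫ S.i = T.i ≫ J.d n n' := by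
  let R := Scheme.Modules.restrictFunctor U.ι
  haveI : R.IsRightAdjoint := (KFlatLib.lshAdj U.ι).isRightAdjoint
  let W := pullback (J.d n n') S.i
  have hW : Coh.IsQCoh W := coh_ax.pullback _ _ (hJ n) S.coh.1 (hJ n')
  haveI : IsIso (R.map (pullback.fst (J.d n n') S.i)) := by
    haveI : IsIso (R.map S.i) := S.iso
    rw [← PreservesPullback.iso_hom_fst]
    infer_instance
  have h0 : Coh.IsCoh (R.obj W) :=
    KFlatLib.isCoh_of_iso (asIso (R.map (pullback.fst (J.d n n') S.i))).symm (hJU n)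
  obtain ⟨G, i, e, hi, hG, hft, he⟩ := QCoh.exists_extension' hW
    (QCoh.extStep_noetherian (fun _ => ⟨⊤, trivial, inferInstance⟩) U) (𝟙 (R.obj W)) h0.1 h0.2
  haveI := hi
  rw [Category.comp_id] at he
  refine ⟨⟨G, i ≫ pullback.fst _ _, inferInstance, ⟨hG, hft⟩, ?_⟩, i ≫ pullback.snd _ _, ?_⟩
  · haveI : IsIso (R.map i) := by
      show IsIso ((Scheme.Modules.restrictFunctor U.ι).map i)
      rw [← he]
      infer_instance
    show IsIso (R.map (i ≫ pullback.fst _ _))
    rw [Functor.map_comp]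
    infer_instance
  · show (i ≫ _) ≫ _ = (i ≫ _) ≫ _
    rw [Category.assoc, Category.assoc, pullback.condition]

variable (b : ℤ) [J.IsStrictlyLE b]

/-- The zero extension, above the top degree. -/
def extTop (n : ℤ) (hn : b < n) : ExtSub U J n :=
  haveI : Mono (0 : (0 : X.Modules) ⟶ J.X n) := ⟨fun _ _ _ => (isZero_zero _).eq_of_tgt _ _⟩
  ⟨0, 0, inferInstance, KFlatLib.isCoh_of_isZero (isZero_zero _), by
    have h1 : IsZero ((Scheme.Modules.restrictFunctor U.ι).obj (J.X n)) :=
      Functor.map_isZero _ (J.isZero_of_isStrictlyLE b n hn)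
    have h2 : IsZero ((Scheme.Modules.restrictFunctor U.ι).obj (0 : X.Modules)) :=
      Functor.map_isZero _ (isZero_zero _)
    exact ⟨0, h2.eq_of_src _ _, h1.eq_of_src _ _⟩⟩

/-- The extensions, by descending induction. -/
def extFam : ∀ (k : ℕ) (n : ℤ), b < n + k → ExtSub U J n
  | 0, n, h => extTop b n (by omega)
  | k + 1, n, h => (exists_extSub hJ hJU (extFam k (n + 1) (by omega))).choose

/-- The extension in degree `n`. -/
def extTerm (n : ℤ) : ExtSub U J n := extFam hJ hJU b (b + 1 - n).toNat n (by omega)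

theorem extFam_congr {k k' : ℕ} (hk : k = k') (n : ℤ) (h : b < n + k) (h' : b < n + k') :
    extFam hJ hJU b k n h = extFam hJ hJU b k' n h' := by
  subst hk; rfl

theorem exists_extD (n : ℤ) : ∃ e : (extTerm hJ hJU b n).X' ⟶ (extTerm hJ hJU b (n + 1)).X',
    e ≫ (extTerm hJ hJU b (n + 1)).i = (extTerm hJ hJU b n).i ≫ J.d n (n + 1) := by
  by_cases hn : n ≤ b
  · unfold extTerm
    rw [extFam_congr hJ hJU b (show (b + 1 - n).toNat = (b + 1 - (n + 1)).toNat + 1 by omega) n _ (by omega)]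
    exact (exists_extSub hJ hJU (extFam hJ hJU b _ (n + 1) _)).choose_spec
  · exact ⟨0, (J.isZero_of_isStrictlyLE b (n + 1) (by omega)).eq_of_tgt _ _⟩

/-- The extended complex. -/
def extCx : CochainComplex X.Modules ℤ :=
  CochainComplex.of (fun n => (extTerm hJ hJU b n).X') (fun n => (exists_extD hJ hJU b n).choose)
    (fun n => by
      rw [← cancel_mono (extTerm hJ hJU b (n + 1 + 1)).i, Category.assoc,
        (exists_extD hJ hJU b (n + 1)).choose_spec, reassoc_of% (exists_extD hJ hJU b n).choose_spec,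
        J.d_comp_d, comp_zero, zero_comp])

/-- The inclusion. -/
def extIncl : extCx hJ hJU b ⟶ J where
  f n := (extTerm hJ hJU b n).i
  comm' n m h := by
    obtain rfl : n + 1 = m := h
    refine (exists_extD hJ hJU b n).choose_spec.symm.trans ?_
    simp [extCx]

end extend

/-- Bounded objects with coherent cohomology extend from opens of Noetherian schemes. -/
theorem exists_coh_extension (U : X.Opens) (F : DCoh.D (U : Scheme.{u})) (hF : DCoh.IsCohD F) (a b : ℤ)
    [F.IsGE a] [F.IsLE b] :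
    ∃ (G : CochainComplex X.Modules ℤ) (a' b' : ℤ), DCoh.IsCohD (DCoh.toD X G) ∧ (DCoh.toD X G).IsGE a' ∧
      (DCoh.toD X G).IsLE b' ∧ Nonempty (DerivedCategory.Q.obj ((DCoh.restrictCx U).obj G) ≅ F) := by
  haveI : IsLocallyNoetherian (U : Scheme.{u}) := isLocallyNoetherian_of_isOpenImmersion U.ι
  haveI : CompactSpace ((U : Scheme.{u}) : Type u) :=
    isCompact_iff_compactSpace.1 (NoetherianSpace.isCompact (U : Set X))
  haveI : IsNoetherian (U : Scheme.{u}) := {}
  haveI : QuasiCompact U.ι := QCoh.quasiCompact_ι_of_noetherian (fun _ => ⟨⊤, trivial, inferInstance⟩) U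
  obtain ⟨E, a', b', ha', hb', hE, ⟨e⟩⟩ := exists_bounded_coh F a b hF
  haveI := ha'
  haveI := hb'
  let j := (Scheme.Modules.pushforward U.ι).mapHomologicalComplex (ComplexShape.up ℤ)
  let J : CochainComplex X.Modules ℤ := j.obj E
  haveI : J.IsStrictlyLE b' := (CochainComplex.isStrictlyLE_iff _ _).2 fun n hn =>
    Functor.map_isZero (Scheme.Modules.pushforward U.ι) (E.isZero_of_isStrictlyLE b' n hn)
  haveI : IsIso (Scheme.Modules.restrictAdjunction U.ι).counit := inferInstance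
  have hJ : ∀ n, Coh.IsQCoh (J.X n) := fun n => QCoh.isQCoh_pushforward U.ι (hE n).1
  let c := fun n => asIso ((Scheme.Modules.restrictAdjunction U.ι).counit.app (E.X n))
  have hJU : ∀ n, Coh.IsCoh ((Scheme.Modules.restrictFunctor U.ι).obj (J.X n)) := fun n =>
    KFlatLib.isCoh_of_iso (c n).symm (hE n)
  let G := extCx hJ hJU b'
  let ι : G ⟶ J := extIncl hJ hJU b'
  haveI : ∀ n, Mono (ι.f n) := fun n => (extTerm hJ hJU b' n).mono
  haveI : ∀ n, IsIso (((DCoh.restrictCx U).map ι).f n) := fun n => (extTerm hJ hJU b' n).iso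
  haveI : IsIso ((DCoh.restrictCx U).map ι) := HomologicalComplex.Hom.isIso_of_components _
  let e' : (DCoh.restrictCx U).obj J ≅ E :=
    HomologicalComplex.Hom.isoOfComponents c
      (fun i k _ => ((Scheme.Modules.restrictAdjunction U.ι).counit.naturality (E.d i k)).symm)
  haveI : G.IsStrictlyGE a' := (CochainComplex.isStrictlyGE_iff _ _).2 fun n hn =>
    IsZero.of_mono (ι.f n) (Functor.map_isZero (Scheme.Modules.pushforward U.ι) (E.isZero_of_isStrictlyGE a' n hn))
  haveI : G.IsStrictlyLE b' := (CochainComplex.isStrictlyLE_iff _ _).2 fun n hn =>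
    IsZero.of_mono (ι.f n) (J.isZero_of_isStrictlyLE b' n hn)
  refine ⟨G, a', b', fun i => ?_, inferInstance, inferInstance,
    ⟨DerivedCategory.Q.mapIso (asIso ((DCoh.restrictCx U).map ι) ≪≫ e') ≪≫ e.symm⟩⟩
  exact KFlatLib.isCoh_of_iso ((DerivedCategory.homologyFunctorFactors X.Modules i).app G).symm
    (H9LTCoh.isCoh_homology_of_terms G (fun n => (extTerm hJ hJU b' n).coh) i)

end Groth.Agent.InjQC
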