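import Groth.Agent.InjQC.CohExtend
import Groth.Agent.InjQC.SubcxMinus
import Mathlib.CategoryTheory.Abelian.Subcategory

/-!
# `D⁻(Coh) = D⁻_coh(QCoh)`
-/

set_option linter.style.haveILetI false
set_option linter.unusedSectionVars false
set_option backward.isDefEq.respectTransparency false
set_option backward.isDefEq.respectTransparency.types false
set_option maxHeartbeats 1000000

universe u

open CategoryTheory CategoryTheory.Limits AlgebraicGeometry
open scoped ZeroObject

noncomputable section

namespace Groth.Agent.InjQC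

open Groth.Agent

variable {X : Scheme.{u}} [IsNoetherian X]
  [ObjectProperty.ContainsZero (fun M : X.Modules => Coh.IsQCoh M)] [ObjectProperty.IsClosedUnderKernels (fun M : X.Modules => Coh.IsQCoh M)]
  [ObjectProperty.IsClosedUnderCokernels (fun M : X.Modules => Coh.IsQCoh M)] [ObjectProperty.IsClosedUnderFiniteProducts (fun M : X.Modules => Coh.IsQCoh M)]
  [ObjectProperty.ContainsZero (fun M : X.Modules => Coh.IsCoh M)] [ObjectProperty.IsClosedUnderKernels (fun M : X.Modules => Coh.IsCoh M)]
  [ObjectProperty.IsClosedUnderCokernels (fun M : X.Modules => Coh.IsCoh M)] [ObjectProperty.IsClosedUnderFiniteProducts (fun M : X.Modules => Coh.IsCoh M)]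

/-- Coherence as a property of quasi-coherent modules. -/
def cohInQ : ObjectProperty (ObjectProperty.FullSubcategory (fun M : X.Modules => Coh.IsQCoh M)) :=
  fun M => Coh.IsCoh M.obj

theorem cohInQ_ax : SubcxQP.Ax (cohInQ (X := X)) ⊤ := by
  let P : ObjectProperty X.Modules := fun M => Coh.IsQCoh M
  haveI := ObjectProperty.preservesMonomorphisms_ι_of_isNormalEpiCategory P
  haveI := ObjectProperty.preservesEpimorphisms_ι_of_isNormalMonoCategory P
  refine
    { le := fun _ _ => trivial
      zero := fun M h => KFlatLib.isCoh_of_isZero (Functor.map_isZero P.ι h)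
      ker := fun _ _ _ => trivial
      coker := fun _ _ _ => trivial
      biprod := fun _ _ _ _ => trivial
      iso := fun _ _ => trivial
      sub := fun {M N} f _ _ hN => ?_
      quot := fun {M N} f _ hM _ => ?_
      biprodP := fun M N hM hN => ?_
      lift := fun M N π hπ _ hN => ?_ }
  · haveI : Mono f.hom := inferInstanceAs (Mono (P.ι.map f))
    exact QCoh.isCoh_of_mono f.hom hN M.property
  · haveI : Epi f.hom := inferInstanceAs (Epi (P.ι.map f))
    exact QCoh.isCoh_of_epi f.hom hM N.property
  · haveI := preservesBinaryBiproduct_of_preservesBiproduct P.ι M N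
    exact KFlatLib.isCoh_of_iso (P.ι.mapBiprod M N).symm (KZ.isCoh_biprod hM hN)
  · haveI : Epi π.hom := inferInstanceAs (Epi (P.ι.map π))
    obtain ⟨G, i, hi, hG, he⟩ := exists_coh_lift π.hom M.property hN
    refine ⟨⟨G, hG.1⟩, ObjectProperty.homMk i, ?_, hG, ?_⟩
    · exact P.ι.mono_of_mono_map (show Mono i from hi)
    · exact P.ι.epi_of_epi_map (show Epi (i ≫ π.hom) from he)

theorem coh_minus
    [PreservesFiniteLimits (ObjectProperty.lift (fun M : X.Modules => Coh.IsQCoh M) (ObjectProperty.ι (fun M : X.Modules => Coh.IsCoh M)) (fun M => M.property.1))]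
    [PreservesFiniteColimits (ObjectProperty.lift (fun M : X.Modules => Coh.IsQCoh M) (ObjectProperty.ι (fun M : X.Modules => Coh.IsCoh M)) (fun M => M.property.1))]
    [HasDerivedCategory (ObjectProperty.FullSubcategory (fun M : X.Modules => Coh.IsQCoh M))]
    [HasDerivedCategory (ObjectProperty.FullSubcategory (fun M : X.Modules => Coh.IsCoh M))] :
    (∀ (M N : DerivedCategory (ObjectProperty.FullSubcategory (fun M : X.Modules => Coh.IsCoh M))) (b : ℤ), M.IsLE b → N.IsLE b →
      Function.Bijective (fun φ : M ⟶ N => (ObjectProperty.lift (fun M : X.Modules => Coh.IsQCoh M) (ObjectProperty.ι (fun M : X.Modules => Coh.IsCoh M)) (fun M => M.property.1)).mapDerivedCategory.map φ)) ∧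
    ∀ (K : DerivedCategory (ObjectProperty.FullSubcategory (fun M : X.Modules => Coh.IsQCoh M))) (b : ℤ), K.IsLE b →
      (∀ i : ℤ, Coh.IsCoh ((DerivedCategory.homologyFunctor (ObjectProperty.FullSubcategory (fun M : X.Modules => Coh.IsQCoh M)) i).obj K).obj) →
      ∃ M : DerivedCategory (ObjectProperty.FullSubcategory (fun M : X.Modules => Coh.IsCoh M)), M.IsLE b ∧
        Nonempty ((ObjectProperty.lift (fun M : X.Modules => Coh.IsQCoh M) (ObjectProperty.ι (fun M : X.Modules => Coh.IsCoh M)) (fun M => M.property.1)).mapDerivedCategory.obj M ≅ K) := by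
  let F := ObjectProperty.lift (fun M : X.Modules => Coh.IsQCoh M) (ObjectProperty.ι (fun M : X.Modules => Coh.IsCoh M)) (fun M => M.property.1)
  haveI : F.Additive := Functor.additive_of_preserves_binary_products F
  have him : SubcxFac.Image F (cohInQ (X := X)) :=
    ⟨fun b => b.property, fun a h => ⟨⟨a.obj, h⟩, ⟨ObjectProperty.isoMk _ (Iso.refl _)⟩⟩⟩
  exact ⟨fun M N b hM _ => SubcxMinus.bijective F cohInQ cohInQ_ax him M N b hM,
    fun K b hK hH => SubcxMinus.exists_preimage F cohInQ cohInQ_ax him K b hK hH⟩

end Groth.Agent.InjQC
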