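import Groth.Agent.InjQC.Main
import Mathlib.Algebra.Category.ModuleCat.Injective

/-!
# Injective quasi-coherent modules have injective stalks
-/

set_option linter.style.haveILetI false
set_option backward.isDefEq.respectTransparency false
set_option backward.isDefEq.respectTransparency.types false
set_option maxHeartbeats 1000000

universe u

open CategoryTheory CategoryTheory.Limits AlgebraicGeometry TopologicalSpace Opposite

namespace Groth.Agent.InjQC

open Groth.Agent

variable {X : Scheme.{u}} {F : X.Modules}

/-- Sections of injective quasi-coherent modules on affine opens are injective. -/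
theorem injective_sections_of_injective [Injective F] {V : X.Opens} (hV : IsAffineOpen V) :
    Module.Injective Γ(X, V) Γ(F, V) := by
  haveI : Injective (F.restrict hV.fromSpec) := ExtShX.isInjective_restrict hV.fromSpec F
  haveI : Injective (moduleSpecΓFunctor.obj (F.restrict hV.fromSpec)) :=
    Injective.injective_of_adjoint (tilde.adjunction (R := Γ(X, V))) _
  haveI := Module.injective_module_of_injective_object Γ(X, V)
    (moduleSpecΓFunctor.obj (F.restrict hV.fromSpec))
  exact LC.injective_of_linearEquiv (QCoh.chartEquiv hV F).symm

theorem injective_stalk_of_sections [IsLocallyNoetherian X] (hF : Coh.IsQCoh F) {V : X.Opens}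
    (hV : IsAffineOpen V) [Module.Injective Γ(X, V) Γ(F, V)] {x : X} (hx : x ∈ V) :
    Module.Injective (X.presheaf.stalk x) (F.presheaf.stalk x) := by
  haveI : IsNoetherianRing Γ(X, V) := IsLocallyNoetherian.component_noetherian ⟨V, hV⟩
  letI := QCoh.stalkAlg (X := X) hx
  letI := QCoh.stalkModule F hx
  haveI := QCoh.isScalarTower_stalk F hx
  haveI := QCoh.isLocalization_stalk' hV hx
  haveI := QCoh.isLocalizedModule_germLin hF hV hx
  exact Module.injective_of_isLocalizedModule (hV.primeIdealOf ⟨x, hx⟩).asIdeal.primeCompl
    (QCoh.germLin F hx)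

theorem injective_iff_stalks [IsLocallyNoetherian X] (hF : Coh.IsQCoh F) :
    Injective F ↔ ∀ x : X, Module.Injective (X.presheaf.stalk x) (F.presheaf.stalk x) := by
  refine ⟨fun h x => ?_, injective_of_stalks hF⟩
  obtain ⟨_, ⟨V, hV, rfl⟩, hx, -⟩ :=
    X.isBasis_affineOpens.exists_subset_of_mem_open (Set.mem_univ x) isOpen_univ
  haveI := injective_sections_of_injective (F := F) hV
  exact injective_stalk_of_sections hF hV hx

/-- Injective sections on an affine cover suffice. -/
theorem injective_of_sections [IsLocallyNoetherian X] (hF : Coh.IsQCoh F)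
    (h : ∀ x : X, ∃ (V : X.Opens) (_ : IsAffineOpen V), x ∈ V ∧ Module.Injective Γ(X, V) Γ(F, V)) :
    Injective F :=
  injective_of_stalks hF fun x => by
    obtain ⟨V, hV, hx, hi⟩ := h x
    haveI := hi
    exact injective_stalk_of_sections hF hV hx

end Groth.Agent.InjQC
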