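import Groth.Agent.S11329
import Groth.Agent.QCoh.Stalk
import Groth.Agent.QCoh.FT
import Groth.Agent.AModX.Res
import Groth.Agent.LC.InjNoeth
import Mathlib.AlgebraicGeometry.Noetherian

/-!
# Quasi-coherent modules with injective stalks: sections on affine opens
-/

set_option linter.style.haveILetI false
set_option backward.isDefEq.respectTransparency false
set_option backward.isDefEq.respectTransparency.types false

universe u

open CategoryTheory CategoryTheory.Limits AlgebraicGeometry TopologicalSpace Opposite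

namespace Groth.Agent.InjQC

open Groth.Agent

variable {X : Scheme.{u}} {F : X.Modules} {V : X.Opens}

theorem injective_sections (hF : Coh.IsQCoh F) (hV : IsAffineOpen V) [IsNoetherianRing Γ(X, V)]
    (hst : ∀ x ∈ V, Module.Injective (X.presheaf.stalk x) (F.presheaf.stalk x)) :
    Module.Injective Γ(X, V) Γ(F, V) := by
  choose y hy hyq using fun P : MaximalSpectrum Γ(X, V) => QCoh.exists_point hV P.toPrimeSpectrum
  letI := fun P : MaximalSpectrum Γ(X, V) => QCoh.stalkAlg (X := X) (hy P)
  letI := fun P : MaximalSpectrum Γ(X, V) => QCoh.stalkModule F (hy P)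
  haveI := fun P : MaximalSpectrum Γ(X, V) => QCoh.isScalarTower_stalk F (hy P)
  haveI hl : ∀ (P : Ideal Γ(X, V)) [hP : P.IsMaximal],
      IsLocalizedModule P.primeCompl (QCoh.germLin F (hy ⟨P, hP⟩)) := fun P hP => by
    have := QCoh.isLocalizedModule_germLin hF hV (hy ⟨P, hP⟩)
    simp only [hyq] at this
    exact this
  haveI hR : ∀ (P : Ideal Γ(X, V)) [hP : P.IsMaximal],
      IsLocalization.AtPrime (X.presheaf.stalk (y ⟨P, hP⟩)) P := fun P hP => by
    have := QCoh.isLocalization_stalk' hV (hy ⟨P, hP⟩)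
    simp only [hyq] at this
    exact this
  exact Module.injective_of_localization_maximal' (fun P hP => X.presheaf.stalk (y ⟨P, hP⟩))
    (fun P hP => F.presheaf.stalk (y ⟨P, hP⟩)) (fun P hP => QCoh.germLin F (hy ⟨P, hP⟩))
    fun P hP => hst _ (hy ⟨P, hP⟩)

/-- Sections on opens of an affine open extend. -/
theorem res_surjective (hF : Coh.IsQCoh F) (hV : IsAffineOpen V) [IsNoetherianRing Γ(X, V)]
    (hst : ∀ x ∈ V, Module.Injective (X.presheaf.stalk x) (F.presheaf.stalk x))
    {W : X.Opens} (hW : W ≤ V) : Function.Surjective (AModX.res F hW) := by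
  intro t
  let A := Γ(X, V)
  haveI := injective_sections hF hV hst
  haveI : IsIso (F.restrict hV.fromSpec).fromTildeΓ :=
    (isQuasicoherent_iff_isIso_fromTildeΓ _).1 (QCoh.isQCoh_restrict hV.fromSpec hF)
  let N : ModuleCat.{u} A := ModuleCat.of A Γ(F, V)
  let eT : F.restrict hV.fromSpec ≅ tilde N := (asIso (F.restrict hV.fromSpec).fromTildeΓ).symm ≪≫
    ((tilde.functor A).mapIso (QCoh.chartEquiv hV F).toModuleIso).symm
  let W' := hV.fromSpec ⁻¹ᵁ W
  have h1 : hV.fromSpec ''ᵁ W' = W := by
    rw [Scheme.Hom.image_preimage_eq_opensRange_inf, hV.opensRange_fromSpec]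
    exact inf_eq_right.2 hW
  have h2 : hV.fromSpec ''ᵁ (⊤ : (Spec A).Opens) = V :=
    (Scheme.Hom.image_top_eq_opensRange _).trans hV.opensRange_fromSpec
  let t' : Γ(F.restrict hV.fromSpec, W') :=
    (F.restrictAppIso hV.fromSpec W').inv (AModX.res F h1.le t)
  obtain ⟨z, hz⟩ := S11329.result A Γ(F, V) W' ⊤ le_top (eT.hom.app W' t')
  let a : Γ(F, hV.fromSpec ''ᵁ (⊤ : (Spec A).Opens)) :=
    (F.restrictAppIso hV.fromSpec ⊤).hom (eT.inv.app ⊤ z)
  refine ⟨AModX.res F h2.ge a, ?_⟩
  have h3 : AModX.res (F.restrict hV.fromSpec) (le_top : W' ≤ ⊤) (eT.inv.app ⊤ z) = t' := by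
    rw [← AModX.app_res]
    refine (congrArg (eT.inv.app W') (show AModX.res (tilde N) (le_top : W' ≤ ⊤) z = _ from hz)).trans ?_
    exact congr(($(eT.hom_inv_id)).app W' t')
  have h4 : AModX.res F (hV.fromSpec.image_mono (le_top : W' ≤ ⊤)) a = AModX.res F h1.le t :=
    congrArg (F.restrictAppIso hV.fromSpec W').hom h3
  have h5 := congrArg (AModX.res F h1.ge) h4
  simp only [AModX.res_res, AModX.res_self] at h5
  rw [AModX.res_res]
  exact h5

end Groth.Agent.InjQC
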