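import Groth.Agent.InjQC.Flasque
import Groth.Agent.QCoh.Support
import Groth.Agent.QCoh.Localize
import Mathlib.RingTheory.Ideal.MinimalPrime.Noetherian
import Mathlib.RingTheory.Finiteness.Ideal

/-!
# Extending homomorphisms from subsheaves of the structure sheaf: the local step
-/

set_option linter.style.haveILetI false
set_option backward.isDefEq.respectTransparency false
set_option backward.isDefEq.respectTransparency.types false
set_option maxHeartbeats 1000000

universe u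

open CategoryTheory CategoryTheory.Limits AlgebraicGeometry TopologicalSpace Opposite

namespace Groth.Agent.InjQC

open Groth.Agent

variable {X : Scheme.{u}} {F S : X.Modules} (ι : S ⟶ Coh.structureModule X) (φ : S ⟶ F)

/-- The function underlying a section of an ideal sheaf. -/
noncomputable def val {W : X.Opens} (a : Γ(S, W)) : Γ(X, W) := ι.app W a

theorem val_smul {W : X.Opens} (r : Γ(X, W)) (a : Γ(S, W)) : val ι (r • a) = r * val ι a :=
  Scheme.Modules.Hom.app_smul ι r a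

theorem val_sum {W : X.Opens} {α : Type*} (s : Finset α) (a : α → Γ(S, W)) :
    val ι (∑ i ∈ s, a i) = ∑ i ∈ s, val ι (a i) := map_sum (ι.app W).hom _ _

theorem val_res {W W' : X.Opens} (h : W' ≤ W) (a : Γ(S, W)) :
    val ι (AModX.res S h a) = AModX.resR h (val ι a) := AModX.app_res ι h a

theorem val_injective [Mono ι] (W : X.Opens) : Function.Injective (val ι (W := W)) :=
  fun _ _ h => QCoh.app_injective ι W h

/-- `φ` is multiplication by `t` over `W`. -/
def Compat (W : X.Opens) (t : Γ(F, W)) : Prop :=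
  ∀ (W' : X.Opens) (h : W' ≤ W) (a : Γ(S, W')), φ.app W' a = val ι a • AModX.res F h t

/-- The failure of `φ` to be multiplication by `t`. -/
noncomputable def dl {V : X.Opens} (t : Γ(F, V)) {W : X.Opens} (h : W ≤ V) (a : Γ(S, W)) : Γ(F, W) :=
  φ.app W a - val ι a • AModX.res F h t

theorem res_dl {V : X.Opens} (t : Γ(F, V)) {W W' : X.Opens} (h : W ≤ V) (h' : W' ≤ W) (a : Γ(S, W)) :
    AModX.res F h' (dl ι φ t h a) = dl ι φ t (h'.trans h) (AModX.res S h' a) := by
  rw [dl, dl, map_sub, AModX.res_smul, AModX.res_res, AModX.app_res, val_res]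

theorem germ_resR {V W : X.Opens} (h : W ≤ V) {x : X} (hx : x ∈ W) (r : Γ(X, V)) :
    X.presheaf.germ W x hx (AModX.resR h r) = X.presheaf.germ V x (h hx) r :=
  TopCat.Presheaf.germ_res_apply X.presheaf (homOfLE h) x hx r

theorem germ_res (M : X.Modules) {V W : X.Opens} (h : W ≤ V) {x : X} (hx : x ∈ W) (s : Γ(M, V)) :
    M.presheaf.germ W x hx (AModX.res M h s) = M.presheaf.germ V x (h hx) s :=
  TopCat.Presheaf.germ_res_apply M.presheaf (homOfLE h) x hx s

theorem exists_nhd {α : Type*} (s : Finset α) (x : X) (P : α → X.Opens → Prop)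
    (hP : ∀ i W W', W' ≤ W → P i W → P i W') (h : ∀ i ∈ s, ∃ W, x ∈ W ∧ P i W) :
    ∃ W, x ∈ W ∧ ∀ i ∈ s, P i W := by
  classical
  induction s using Finset.induction with
  | empty => exact ⟨⊤, trivial, by simp⟩
  | insert i s _ ih =>
    obtain ⟨W, hW, hs⟩ := ih fun j hj => h j (Finset.mem_insert_of_mem hj)
    obtain ⟨W', hW', hi⟩ := h i (Finset.mem_insert_self _ _)
    refine ⟨W ⊓ W', ⟨hW, hW'⟩, fun j hj => ?_⟩
    obtain rfl | hj := Finset.mem_insert.1 hj
    · exact hP _ _ _ inf_le_right hi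
    · exact hP _ _ _ inf_le_left (hs j hj)

variable [IsLocallyNoetherian X] [Mono ι]

/-- The value of the extension at a point. -/
theorem exists_stalk_elem (hF : Coh.IsQCoh F) {V : X.Opens} (hV : IsAffineOpen V) {ξ : X} (hξ : ξ ∈ V)
    (hst : Module.Injective (X.presheaf.stalk ξ) (F.presheaf.stalk ξ)) (J : Ideal Γ(X, V)) (W₀ : X.Opens)
    (hW₀ : W₀ ≤ V) (hJ : ∀ y (hy : y ∈ V), ¬ J ≤ (hV.primeIdealOf ⟨y, hy⟩).asIdeal → y ∈ W₀)
    (t : Γ(F, V)) (hc : Compat ι φ W₀ (AModX.res F hW₀ t)) :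
    ∃ (e : F.presheaf.stalk ξ) (n : ℕ), (∀ c ∈ J ^ n, X.presheaf.germ V ξ hξ c • e = 0) ∧
      ∀ (W : X.Opens) (h : W ≤ V) (hW : ξ ∈ W) (a : Γ(S, W)),
        F.presheaf.germ W ξ hW (dl ι φ t h a) = X.presheaf.germ W ξ hW (val ι a) • e := by
  haveI : IsNoetherianRing Γ(X, V) := IsLocallyNoetherian.component_noetherian ⟨V, hV⟩
  let O := X.presheaf.stalk ξ
  let g : Γ(X, V) →+* O := (X.presheaf.germ V ξ hξ).hom
  let J' : Ideal O := J.map g
  let T : Submodule O (F.presheaf.stalk ξ) :=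
    ⨆ n : ℕ, Submodule.torsionBySet O (F.presheaf.stalk ξ) ((J' ^ n : Ideal O) : Set O)
  have key : ∀ (W : X.Opens) (h : W ≤ V) (hW : ξ ∈ W) (a : Γ(S, W)),
      F.presheaf.germ W ξ hW (dl ι φ t h a) ∈ T := by
    intro W h hW a
    let Ann : Ideal Γ(X, V) := Ideal.comap g
      (LinearMap.ker (LinearMap.toSpanSingleton O _ (F.presheaf.germ W ξ hW (dl ι φ t h a))))
    have hJA : J ≤ Ann.radical := by
      intro c hc'
      obtain ⟨f, hf, hξf⟩ := hV.exists_basicOpen_le ⟨ξ, hW⟩ hξ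
      let D := X.basicOpen f
      have hD : D ≤ V := X.basicOpen_le f
      let s : Γ(F, D) := AModX.res F hf (dl ι φ t h a)
      have hle : X.basicOpen (AModX.resR hD c) ≤ W ⊓ W₀ := by
        intro y hy
        have hyD : y ∈ D := X.basicOpen_le _ hy
        refine ⟨hf hyD, hJ y (hD hyD) fun hJq => ?_⟩
        have hyc : y ∈ X.basicOpen c := by
          rw [show X.basicOpen (AModX.resR hD c) = D ⊓ X.basicOpen c from X.basicOpen_res c _] at hy
          exact hy.2
        exact (QCoh.mem_basicOpen_iff_notMem hV (hD hyD) c).1 hyc (hJq hc')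
      have hs : AModX.res F (X.basicOpen_le (AModX.resR hD c)) s = 0 := by
        rw [AModX.res_res, res_dl, dl, hc _ (hle.trans inf_le_right), AModX.res_res, sub_self]
      obtain ⟨k, hk⟩ := QCoh.exists_pow_smul_eq_zero hF (hV.basicOpen f) _ s hs
      refine ⟨k, ?_⟩
      show LinearMap.toSpanSingleton O _ _ (g (c ^ k)) = 0
      have h' := congrArg (F.presheaf.germ D ξ hξf) hk
      rw [QCoh.germ_smul', map_pow, germ_resR, map_zero, germ_res] at h'
      rw [LinearMap.toSpanSingleton_apply, map_pow]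
      exact h'
    obtain ⟨n, hn⟩ := Ideal.exists_pow_le_of_le_radical_of_fg hJA (IsNoetherian.noetherian J)
    refine (LC.mem_iSup_torsionBySet J' _).2 ⟨n, fun c hc' => ?_⟩
    rw [← Ideal.map_pow] at hc'
    exact Ideal.map_le_iff_le_comap.2 hn hc'
  have uniq : ∀ (W : X.Opens) (h : W ≤ V) (hW : ξ ∈ W) (a : Γ(S, W)) (W' : X.Opens) (h' : W' ≤ V)
      (hW' : ξ ∈ W') (b : Γ(S, W')),
      X.presheaf.germ W ξ hW (val ι a) = X.presheaf.germ W' ξ hW' (val ι b) →
      F.presheaf.germ W ξ hW (dl ι φ t h a) = F.presheaf.germ W' ξ hW' (dl ι φ t h' b) := by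
    intro W h hW a W' h' hW' b hab
    obtain ⟨Z, hZ, i, j, he⟩ := TopCat.Presheaf.germ_eq X.presheaf ξ hW hW' _ _ hab
    have hab' : AModX.res S i.le a = AModX.res S j.le b := by
      refine val_injective ι Z ?_
      rw [val_res, val_res]
      exact he
    rw [← germ_res F i.le hZ, ← germ_res F j.le hZ, res_dl, res_dl, hab']
  let 𝔞 : Ideal O :=
    { carrier := {z | ∃ (W : X.Opens) (_ : W ≤ V) (hW : ξ ∈ W) (a : Γ(S, W)),
        X.presheaf.germ W ξ hW (val ι a) = z}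
      zero_mem' := ⟨V, le_rfl, hξ, 0, by rw [val, map_zero]; exact map_zero _⟩
      add_mem' := by
        rintro _ _ ⟨W, h, hW, a, rfl⟩ ⟨W', h', hW', b, rfl⟩
        refine ⟨W ⊓ W', inf_le_left.trans h, ⟨hW, hW'⟩,
          AModX.res S inf_le_left a + AModX.res S inf_le_right b, ?_⟩
        rw [val, map_add]
        show X.presheaf.germ _ ξ _ (val ι (AModX.res S inf_le_left a) +
          val ι (AModX.res S inf_le_right b)) = _
        rw [map_add, val_res, val_res, germ_resR, germ_resR]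
      smul_mem' := by
        rintro r _ ⟨W, h, hW, a, rfl⟩
        obtain ⟨W', hW', r', rfl⟩ := X.presheaf.exists_germ_eq r
        refine ⟨W ⊓ W', inf_le_left.trans h, ⟨hW, hW'⟩,
          AModX.resR (inf_le_right : W ⊓ W' ≤ W') r' • AModX.res S (inf_le_left : W ⊓ W' ≤ W) a, ?_⟩
        rw [val_smul, map_mul, val_res, germ_resR, germ_resR]
        rfl }
  choose W h hW a ha using fun z : 𝔞 => z.2
  let L : 𝔞 →ₗ[O] T :=
    { toFun := fun z => ⟨F.presheaf.germ (W z) ξ (hW z) (dl ι φ t (h z) (a z)), key _ _ _ _⟩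
      map_add' := fun z z' => by
        refine Subtype.ext ?_
        let W' := W z ⊓ W z'
        have hW' : ξ ∈ W' := ⟨hW z, hW z'⟩
        refine (uniq _ (h (z + z')) (hW _) (a _) W' (inf_le_left.trans (h z)) hW'
          (AModX.res S inf_le_left (a z) + AModX.res S inf_le_right (a z')) ?_).trans ?_
        · rw [ha]
          conv_rhs => rw [val, map_add]
          show _ = X.presheaf.germ W' ξ hW' (val ι (AModX.res S inf_le_left (a z)) +
            val ι (AModX.res S inf_le_right (a z')))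
          rw [map_add, val_res, val_res, germ_resR, germ_resR, ha, ha]
          rfl
        · show _ = F.presheaf.germ (W z) ξ (hW z) (dl ι φ t (h z) (a z)) +
            F.presheaf.germ (W z') ξ (hW z') (dl ι φ t (h z') (a z'))
          rw [← germ_res F (inf_le_left : W' ≤ W z) hW', ← germ_res F (inf_le_right : W' ≤ W z') hW',
            ← map_add, res_dl, res_dl]
          refine congrArg _ ?_
          simp only [dl, val, map_add, add_smul]
          abel
      map_smul' := fun r z => by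
        refine Subtype.ext ?_
        obtain ⟨Z, hZ, r', rfl⟩ := X.presheaf.exists_germ_eq r
        let W' := W z ⊓ Z
        have hW' : ξ ∈ W' := ⟨hW z, hZ⟩
        refine (uniq _ (h _) (hW _) (a _) W' (inf_le_left.trans (h z)) hW'
          (AModX.resR (inf_le_right : W' ≤ Z) r' • AModX.res S (inf_le_left : W' ≤ W z) (a z)) ?_).trans ?_
        · rw [ha, val_smul, map_mul, val_res, germ_resR, germ_resR, ha]
          rfl
        · show _ = X.presheaf.germ Z ξ hZ r' • F.presheaf.germ (W z) ξ (hW z) (dl ι φ t (h z) (a z))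
          rw [← germ_res F (inf_le_left : W' ≤ W z) hW', ← germ_resR (inf_le_right : W' ≤ Z) hW',
            ← QCoh.germ_smul', res_dl]
          refine congrArg _ ?_
          simp only [dl, val_smul, Scheme.Modules.Hom.app_smul, smul_sub, smul_smul]
          rfl }
  haveI := hst
  haveI : Module.Injective O ↥T := LC.injective_torsion J'
  obtain ⟨L', hL'⟩ := Module.Injective.out 𝔞.subtype 𝔞.subtype_injective L
  obtain ⟨n, hn⟩ := (LC.mem_iSup_torsionBySet J' _).1 (L' 1).2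
  refine ⟨(L' 1).1, n, fun c hc' => hn _ (by rw [← Ideal.map_pow]; exact Ideal.mem_map_of_mem g hc'),
    fun W₁ h₁ hW₁ a₁ => ?_⟩
  let z : 𝔞 := ⟨_, W₁, h₁, hW₁, a₁, rfl⟩
  have hz : (L z : F.presheaf.stalk ξ) = X.presheaf.germ W₁ ξ hW₁ (val ι a₁) • (L' 1).1 := by
    rw [← hL' z, ← Submodule.coe_smul, ← map_smul, smul_eq_mul, mul_one]
    rfl
  rw [← hz]
  exact uniq _ h₁ hW₁ a₁ _ (h z) (hW z) (a z) (ha z).symm

/-- A partial extension on an affine open grows. -/
theorem exists_enlarge (hF : Coh.IsQCoh F)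
    (hst : ∀ x : X, Module.Injective (X.presheaf.stalk x) (F.presheaf.stalk x))
    {V : X.Opens} (hV : IsAffineOpen V) {W₀ : X.Opens} (hW₀ : W₀ ≤ V) (hne : ¬ V ≤ W₀)
    (t : Γ(F, V)) (hc : Compat ι φ W₀ (AModX.res F hW₀ t)) :
    ∃ (D : X.Opens) (hD : D ≤ V) (t' : Γ(F, D)), ¬ D ≤ W₀ ∧ Compat ι φ D t' ∧
      AModX.res F (inf_le_left : D ⊓ W₀ ≤ D) t' = AModX.res F (inf_le_left.trans hD : D ⊓ W₀ ≤ V) t := by
  classical
  haveI : IsNoetherianRing Γ(X, V) := IsLocallyNoetherian.component_noetherian ⟨V, hV⟩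
  let A := Γ(X, V)
  let q : ∀ y : X, y ∈ V → Ideal A := fun y hy => (hV.primeIdealOf ⟨y, hy⟩).asIdeal
  let Z : Set (PrimeSpectrum A) := (hV.fromSpec ⁻¹' (W₀ : Set X))ᶜ
  have hZc : IsClosed Z := (W₀.2.preimage hV.fromSpec.continuous).isClosed_compl
  let J : Ideal A := PrimeSpectrum.vanishingIdeal Z
  have hJ : ∀ y (hy : y ∈ V), J ≤ q y hy ↔ y ∉ W₀ := fun y hy => by
    have h1 : hV.primeIdealOf ⟨y, hy⟩ ∈ PrimeSpectrum.zeroLocus (J : Set A) ↔
        hV.primeIdealOf ⟨y, hy⟩ ∈ Z := by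
      rw [PrimeSpectrum.zeroLocus_vanishingIdeal_eq_closure, hZc.closure_eq]
    refine h1.trans ?_
    show hV.fromSpec (hV.primeIdealOf ⟨y, hy⟩) ∉ W₀ ↔ _
    rw [hV.fromSpec_primeIdealOf]
  obtain ⟨y₀, hy₀, hy₀'⟩ := SetLike.not_le_iff_exists.1 hne
  obtain ⟨p, hp, -⟩ := Ideal.exists_minimalPrimes_le ((hJ y₀ hy₀).2 hy₀')
  haveI := hp.1.1
  obtain ⟨ξ, hξ, hξp⟩ := QCoh.exists_point hV ⟨p, hp.1.1⟩
  have hξp' : q ξ hξ = p := congrArg PrimeSpectrum.asIdeal hξp
  have hξW : ξ ∉ W₀ := (hJ ξ hξ).1 (hξp'.ge.trans' hp.1.2)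
  have mem_basic : ∀ c : A, ξ ∈ X.basicOpen c ↔ c ∉ p := fun c => by
    rw [← hξp']; exact QCoh.mem_basicOpen_iff_notMem hV hξ c
  have hfin := Ideal.finite_minimalPrimes_of_isNoetherianRing A J
  have hex : ∀ P : Ideal A, P ∈ J.minimalPrimes → P ≠ p → ∃ c ∈ P, c ∉ p := fun P hP hne' =>
    SetLike.not_le_iff_exists.1 fun hle => hne' (le_antisymm hle (hp.2 hP.1 hle))
  let cP : Ideal A → A := fun P => if h : P ∈ J.minimalPrimes ∧ P ≠ p then (hex P h.1 h.2).choose else 1
  let f₁ : A := ∏ P ∈ hfin.toFinset, cP P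
  have hf₁ : f₁ ∉ p := by
    refine fun h => ?_
    obtain ⟨P, -, hP⟩ := (Ideal.IsPrime.prod_mem_iff).1 h
    simp only [cP] at hP
    split_ifs at hP with h'
    · exact (hex P h'.1 h'.2).choose_spec.2 hP
    · exact hp.1.1.ne_top ((Ideal.eq_top_iff_one _).2 hP)
  have hspec : ∀ y (hy : y ∈ V), y ∈ X.basicOpen f₁ → y ∉ W₀ → p ≤ q y hy := fun y hy hyf hyW => by
    obtain ⟨P, hP, hPq⟩ := Ideal.exists_minimalPrimes_le ((hJ y hy).2 hyW)
    by_cases hPp : P = p
    · exact hPp ▸ hPq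
    · refine absurd (hPq ?_) ((QCoh.mem_basicOpen_iff_notMem hV hy f₁).1 hyf)
      refine Ideal.prod_mem _ (hfin.mem_toFinset.2 hP) ?_
      simp only [cP, dif_pos (And.intro hP hPp)]
      exact (hex P hP hPp).choose_spec.1
  obtain ⟨e, n, hen, he⟩ := exists_stalk_elem ι φ hF hV hξ (hst ξ) J W₀ hW₀
    (fun y hy h => by_contra fun hy' => h ((hJ y hy).2 hy')) t hc
  obtain ⟨We', hWe', e'', he''⟩ := F.presheaf.exists_germ_eq e
  let We := We' ⊓ V
  have hξe : ξ ∈ We := ⟨hWe', hξ⟩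
  let e₀ : Γ(F, We) := AModX.res F inf_le_left e''
  have he₀ : F.presheaf.germ We ξ hξe e₀ = e := (germ_res F _ hξe e'').trans he''
  obtain ⟨cs, hcs⟩ := IsNoetherian.noetherian (J ^ n)
  obtain ⟨U₁, hξU₁, hU₁⟩ := exists_nhd cs ξ (fun c U => ∀ (U' : X.Opens) (h : U' ≤ U) (h' : U' ≤ We),
      AModX.resR (h'.trans inf_le_right : U' ≤ V) c • AModX.res F h' e₀ = 0)
    (fun c U U' hle hP U'' h h' => hP U'' (h.trans hle) h') fun c hc' => by
      have h0 : F.presheaf.germ We ξ hξe (AModX.resR (inf_le_right : We ≤ V) c • e₀) =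
          F.presheaf.germ We ξ hξe 0 := by
        rw [QCoh.germ_smul', germ_resR, he₀, map_zero]
        exact hen c (by rw [← hcs]; exact Ideal.subset_span hc')
      obtain ⟨U, hU, i, j, hUe⟩ := TopCat.Presheaf.germ_eq F.presheaf ξ hξe hξe _ _ h0
      refine ⟨U, hU, fun U' h h' => ?_⟩
      have h2 := congrArg (AModX.res F h) (show AModX.res F i.le
        (AModX.resR (inf_le_right : We ≤ V) c • e₀) = AModX.res F j.le 0 from hUe)
      rw [map_zero, map_zero, AModX.res_res, AModX.res_smul, AModX.resR_resR] at h2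
      exact h2
  have hvan : ∀ (U : X.Opens) (h : U ≤ U₁) (h' : U ≤ We), U ≤ W₀ → AModX.res F h' e₀ = 0 := by
    intro U h h' hUW
    refine AModX.eq_of_locally _ _ fun y hy => ?_
    have hyV : y ∈ V := hW₀ (hUW hy)
    obtain ⟨c, hc', hcq⟩ : ∃ c ∈ cs, c ∉ q y hyV := by
      by_contra hcon
      push Not at hcon
      have : J ^ n ≤ q y hyV := by rw [← hcs]; exact Ideal.span_le.2 hcon
      exact (hJ y hyV).1 (Ideal.IsPrime.le_of_pow_le this) (hUW hy)
    refine ⟨U ⊓ X.basicOpen c, inf_le_left, ⟨hy, (QCoh.mem_basicOpen_iff_notMem hV hyV c).2 hcq⟩, ?_⟩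
    rw [map_zero, AModX.res_res]
    refine (IsUnit.smul_eq_zero (AModX.isUnit_resR _ c inf_le_right)).1
      (hU₁ c hc' (U ⊓ X.basicOpen c) (inf_le_left.trans h) (inf_le_left.trans h'))
  let 𝔞 : Ideal (X.presheaf.stalk ξ) := Ideal.span {z | ∃ (W : X.Opens) (hW : ξ ∈ W) (a : Γ(S, W)),
        X.presheaf.germ W ξ hW (val ι a) = z}
  obtain ⟨gs, hgs, hspan⟩ := Submodule.fg_span_iff_fg_span_finset_subset _ |>.1
    (IsNoetherian.noetherian 𝔞)
  choose Wa hWa aa haa using fun g : gs => hgs g.2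
  letI := QCoh.stalkAlg (X := X) hξ
  haveI := QCoh.isLocalization_stalk' hV hξ
  have hnum : ∀ g : gs, ∃ (x u : A), u ∉ p ∧
      g.1 * X.presheaf.germ V ξ hξ u = X.presheaf.germ V ξ hξ x := fun g => by
    obtain ⟨⟨x, u⟩, hxu⟩ := IsLocalization.surj (hV.primeIdealOf ⟨ξ, hξ⟩).asIdeal.primeCompl g.1
    exact ⟨x, u.1, fun hh => u.2 (show u.1 ∈ q ξ hξ by rw [hξp']; exact hh), hxu⟩
  choose xn un hun hxn using hnum
  let I : Ideal A := Ideal.span (Set.range xn)
  let I' : Ideal A := (I.map (algebraMap A (X.presheaf.stalk ξ))).comap (algebraMap A (X.presheaf.stalk ξ))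
  obtain ⟨ys, hys⟩ := IsNoetherian.noetherian I'
  have hmul : ∀ y ∈ I', ∃ w ∉ p, w * y ∈ I := fun y hy => by
    obtain ⟨⟨x, w⟩, hw⟩ := (IsLocalization.mem_map_algebraMap_iff
      (hV.primeIdealOf ⟨ξ, hξ⟩).asIdeal.primeCompl _).1 hy
    rw [← map_mul] at hw
    obtain ⟨c, hc'⟩ := (IsLocalization.eq_iff_exists
      (hV.primeIdealOf ⟨ξ, hξ⟩).asIdeal.primeCompl _).1 hw
    refine ⟨c.1 * w.1, fun hh => ?_, ?_⟩
    · exact (c * w).2 (show (c * w).1 ∈ q ξ hξ by rw [hξp']; exact hh)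
    · rw [mul_assoc, mul_comm w.1 y, hc']
      exact I.mul_mem_left _ x.2
  let wy : A → A := fun y => if h : y ∈ I' then (hmul y h).choose else 1
  let f₅ : A := ∏ y ∈ ys, wy y
  have hf₅ : f₅ ∉ p := fun h => by
    obtain ⟨y, -, hy⟩ := (Ideal.IsPrime.prod_mem_iff).1 h
    simp only [wy] at hy
    split_ifs at hy with h'
    · exact (hmul y h').choose_spec.1 hy
    · exact hp.1.1.ne_top ((Ideal.eq_top_iff_one _).2 hy)
  have hf₅I : ∀ y ∈ I', f₅ * y ∈ I := by
    intro y hy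
    rw [← hys] at hy
    induction hy using Submodule.span_induction with
    | mem z hz =>
      have hz' : z ∈ I' := by rw [← hys]; exact Ideal.subset_span hz
      have : f₅ = (∏ y ∈ ys.erase z, wy y) * wy z := (Finset.prod_erase_mul ys wy hz).symm
      rw [this, mul_assoc]
      refine I.mul_mem_left _ ?_
      simp only [wy, dif_pos hz']
      exact (hmul z hz').choose_spec.2
    | zero => simp
    | add a b _ _ ha hb => rw [mul_add]; exact I.add_mem ha hb
    | smul r a _ ha => rw [smul_eq_mul, mul_left_comm]; exact I.mul_mem_left r ha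
  have hgen : ∀ g : gs, ∃ U, ξ ∈ U ∧ U ≤ Wa g ∧ U ≤ X.basicOpen (un g) ∧ ∀ (U' : X.Opens) (h : U' ≤ Wa g)
      (_ : U' ≤ U) (hV' : U' ≤ V) (he' : U' ≤ We),
      AModX.resR h (val ι (aa g)) * AModX.resR hV' (un g) = AModX.resR hV' (xn g) ∧
      φ.app U' (AModX.res S h (aa g)) =
        val ι (AModX.res S h (aa g)) • (AModX.res F hV' t + AModX.res F he' e₀) := by
    intro g
    let U₀ := Wa g ⊓ We
    have hU₀ : ξ ∈ U₀ := ⟨hWa g, hξe⟩
    have hV₀ : U₀ ≤ V := inf_le_right.trans inf_le_right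
    have h1 : X.presheaf.germ U₀ ξ hU₀
        (AModX.resR (inf_le_left : U₀ ≤ Wa g) (val ι (aa g)) * AModX.resR hV₀ (un g)) =
        X.presheaf.germ U₀ ξ hU₀ (AModX.resR hV₀ (xn g)) := by
      rw [map_mul, germ_resR, germ_resR, germ_resR, haa]
      exact hxn g
    have h2 : F.presheaf.germ U₀ ξ hU₀ (dl ι φ t hV₀ (AModX.res S inf_le_left (aa g))) =
        F.presheaf.germ U₀ ξ hU₀
          (val ι (AModX.res S (inf_le_left : U₀ ≤ Wa g) (aa g)) • AModX.res F (inf_le_right : U₀ ≤ We) e₀) := by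
      rw [he, QCoh.germ_smul', germ_res, he₀]
    obtain ⟨Z₁, hZ₁, i₁, j₁, h1⟩ := TopCat.Presheaf.germ_eq X.presheaf ξ hU₀ hU₀ _ _ h1
    obtain ⟨Z₂, hZ₂, i₂, j₂, h2⟩ := TopCat.Presheaf.germ_eq F.presheaf ξ hU₀ hU₀ _ _ h2
    refine ⟨Z₁ ⊓ Z₂ ⊓ X.basicOpen (un g), ⟨⟨hZ₁, hZ₂⟩, (mem_basic _).2 (hun g)⟩,
      inf_le_left.trans (inf_le_left.trans (i₁.le.trans inf_le_left)), inf_le_right,
      fun U' h hU hV' he' => ⟨?_, ?_⟩⟩
    · have := congrArg (AModX.resR (hU.trans (inf_le_left.trans inf_le_left) : U' ≤ Z₁))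
        (show AModX.resR i₁.le (AModX.resR (inf_le_left : U₀ ≤ Wa g) (val ι (aa g)) *
          AModX.resR hV₀ (un g)) = AModX.resR j₁.le (AModX.resR hV₀ (xn g)) from h1)
      rw [AModX.resR_resR, AModX.resR_resR, map_mul, AModX.resR_resR, AModX.resR_resR,
        AModX.resR_resR] at this
      exact this
    · have := congrArg (AModX.res F (hU.trans (inf_le_left.trans inf_le_right) : U' ≤ Z₂))
        (show AModX.res F i₂.le (dl ι φ t hV₀ (AModX.res S inf_le_left (aa g))) =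
          AModX.res F j₂.le (val ι (AModX.res S (inf_le_left : U₀ ≤ Wa g) (aa g)) • AModX.res F (inf_le_right : U₀ ≤ We) e₀) from h2)
      rw [AModX.res_res, AModX.res_res, res_dl, AModX.res_res, AModX.res_smul, AModX.res_res,
        ← val_res, AModX.res_res, dl, sub_eq_iff_eq_add'] at this
      rw [smul_add]
      exact this
  obtain ⟨U₂, hξU₂, hU₂⟩ := exists_nhd (Finset.univ : Finset gs) ξ
    (fun g U => U ≤ Wa g ∧ U ≤ X.basicOpen (un g) ∧ ∀ (U' : X.Opens) (h : U' ≤ Wa g)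
      (_ : U' ≤ U) (hV' : U' ≤ V) (he' : U' ≤ We),
      AModX.resR h (val ι (aa g)) * AModX.resR hV' (un g) = AModX.resR hV' (xn g) ∧
      φ.app U' (AModX.res S h (aa g)) =
        val ι (AModX.res S h (aa g)) • (AModX.res F hV' t + AModX.res F he' e₀))
    (fun g U U' hle hP => ⟨hle.trans hP.1, hle.trans hP.2.1,
      fun U'' h hU hV' he' => hP.2.2 U'' h (hU.trans hle) hV' he'⟩)
    fun g _ => hgen g
  have hξall : ξ ∈ We ⊓ U₁ ⊓ U₂ ⊓ X.basicOpen f₁ ⊓ X.basicOpen f₅ :=
    ⟨⟨⟨⟨hξe, hξU₁⟩, hξU₂⟩, (mem_basic _).2 hf₁⟩, (mem_basic _).2 hf₅⟩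
  obtain ⟨f, hf, hξf⟩ := hV.exists_basicOpen_le
    (V := We ⊓ U₁ ⊓ U₂ ⊓ X.basicOpen f₁ ⊓ X.basicOpen f₅) ⟨ξ, hξall⟩ hξ
  let D := X.basicOpen f
  have hDV : D ≤ V := X.basicOpen_le f
  have hDe : D ≤ We := fun y hy => (hf hy).1.1.1.1
  have hDU₁ : D ≤ U₁ := fun y hy => (hf hy).1.1.1.2
  have hDU₂ : D ≤ U₂ := fun y hy => (hf hy).1.1.2
  have hDf₁ : D ≤ X.basicOpen f₁ := fun y hy => (hf hy).1.2
  have hDf₅ : D ≤ X.basicOpen f₅ := fun y hy => (hf hy).2
  let t' : Γ(F, D) := AModX.res F hDV t + AModX.res F hDe e₀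
  refine ⟨D, hDV, t', fun h => hξW (h hξf), fun W' h b => AModX.eq_of_locally _ _ fun y hy => ?_, ?_⟩
  · by_cases hyW : y ∈ W₀
    · refine ⟨W' ⊓ W₀, inf_le_left, ⟨hy, hyW⟩, ?_⟩
      rw [← AModX.app_res, hc _ inf_le_right, AModX.res_smul, val_res, AModX.res_res, AModX.res_res]
      simp only [t', map_add, AModX.res_res]
      rw [hvan _ (inf_le_left.trans (h.trans hDU₁)) _ inf_le_right, add_zero]
    · have hyV : y ∈ V := hDV (h hy)
      obtain ⟨g, hg, hyg⟩ := hV.exists_basicOpen_le ⟨y, hy⟩ hyV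
      let G := X.basicOpen g
      have hGV : G ≤ V := X.basicOpen_le g
      have hGD : G ≤ D := hg.trans h
      refine ⟨G, hg, hyg, ?_⟩
      have hgp : g ∉ p := fun hgp => (QCoh.mem_basicOpen_iff_notMem hV hyV g).1 hyg
        (hspec y hyV (hDf₁ (h hy)) hyW hgp)
      have hξG : ξ ∈ G := (mem_basic g).2 hgp
      haveI := hV.isLocalization_basicOpen g
      obtain ⟨k, x, hx⟩ := IsLocalization.Away.surj g (val ι (AModX.res S hg b))
      have hx' : val ι (AModX.res S hg b) * AModX.resR hGV g ^ k = AModX.resR hGV x := hx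
      have hgs' : ∀ z ∈ gs, z ∈ I.map (algebraMap A (X.presheaf.stalk ξ)) := fun z hz => by
        have h3 : z * algebraMap A (X.presheaf.stalk ξ) (un ⟨z, hz⟩) =
          algebraMap A (X.presheaf.stalk ξ) (xn ⟨z, hz⟩) := hxn ⟨z, hz⟩
        refine (Ideal.mul_unit_mem_iff_mem _ (((X.mem_basicOpen _ ξ hξ).1
          ((mem_basic _).2 (hun ⟨z, hz⟩))))).1 ?_
        rw [show z * X.presheaf.germ V ξ hξ (un ⟨z, hz⟩) = _ from h3]
        exact Ideal.mem_map_of_mem _ (Ideal.subset_span ⟨_, rfl⟩)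
      have hxI : x ∈ I' := by
        show X.presheaf.germ V ξ hξ x ∈ I.map (algebraMap A (X.presheaf.stalk ξ))
        rw [← germ_resR hGV hξG x, ← hx', map_mul]
        refine Ideal.mul_mem_right _ _ ?_
        have : X.presheaf.germ G ξ hξG (val ι (AModX.res S hg b)) ∈ 𝔞 :=
          Ideal.subset_span ⟨G, hξG, _, rfl⟩
        rw [show 𝔞 = Ideal.span (gs : Set (X.presheaf.stalk ξ)) from hspan] at this
        exact Ideal.span_le.2 hgs' this
      obtain ⟨r, hr⟩ := (Submodule.mem_span_range_iff_exists_fun A).1 (hf₅I x hxI)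
      have hGa : ∀ i : gs, G ≤ Wa i := fun i =>
        hGD.trans (hDU₂.trans (hU₂ i (Finset.mem_univ i)).1)
      have hi := fun i : gs => (hU₂ i (Finset.mem_univ i)).2.2 G (hGa i) (hGD.trans hDU₂) hGV (hGD.trans hDe)
      let B : Γ(S, G) := ∑ i, (AModX.resR hGV (r i) * AModX.resR hGV (un i)) • AModX.res S (hGa i) (aa i)
      let c : Γ(X, G) := AModX.resR hGV f₅ * AModX.resR hGV g ^ k
      have hcu : IsUnit c := (AModX.isUnit_resR hGV f₅ (hGD.trans hDf₅)).mul
        ((AModX.isUnit_resR hGV g le_rfl).pow k)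
      have hB : c • AModX.res S hg b = B := by
        refine val_injective ι G ?_
        rw [val_smul, mul_assoc, mul_comm (_ ^ k), hx', ← map_mul, ← hr, map_sum, val_sum]
        refine Finset.sum_congr rfl fun i _ => ?_
        rw [val_smul, smul_eq_mul, map_mul, ← (hi i).1, val_res]
        ring
      rw [AModX.res_smul, AModX.res_res, ← val_res, ← AModX.app_res]
      refine hcu.smul_left_cancel.1 ?_
      rw [← Scheme.Modules.Hom.app_smul, smul_smul, ← val_smul, hB, map_sum, val_sum, Finset.sum_smul]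
      refine Finset.sum_congr rfl fun i _ => ?_
      rw [Scheme.Modules.Hom.app_smul, (hi i).2, val_smul, mul_smul (_ * _)]
      simp only [t', map_add, AModX.res_res]
  · simp only [t', map_add, AModX.res_res]
    rw [hvan _ (inf_le_left.trans hDU₁) _ inf_le_right, add_zero]

end Groth.Agent.InjQC
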