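import Groth.Agent.InjQC.Local
import Groth.Agent.SiteBase.Baer
import Groth.Agent.ExtShX.Flasque
import Groth.Agent.InvX.Tensor
import Groth.Agent.KFlatLib.Scheme.Grothendieck

/-!
# Quasi-coherent modules with injective stalks are injective
-/

set_option linter.style.haveILetI false
set_option backward.isDefEq.respectTransparency false
set_option backward.isDefEq.respectTransparency.types false
set_option maxHeartbeats 1000000
set_option linter.unusedSectionVars false

universe u

open CategoryTheory CategoryTheory.Limits AlgebraicGeometry TopologicalSpace Opposite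

namespace Groth.Agent.InjQC

open Groth.Agent

variable {X : Scheme.{u}} [IsLocallyNoetherian X] {F : X.Modules}

theorem compat_glue {S : X.Modules} (ι : S ⟶ Coh.structureModule X) (φ : S ⟶ F) {α : Type u}
    {U : X.Opens} (W : α → X.Opens) (hW : ∀ i, W i ≤ U) (hcov : ∀ p ∈ U, ∃ i, p ∈ W i) (t : Γ(F, U))
    (h : ∀ i, Compat ι φ (W i) (AModX.res F (hW i) t)) : Compat ι φ U t := by
  intro W' h' a
  refine AModX.eq_of_locally _ _ fun p hp => ?_
  obtain ⟨i, hi⟩ := hcov p (h' hp)
  refine ⟨W' ⊓ W i, inf_le_left, ⟨hp, hi⟩, ?_⟩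
  rw [← AModX.app_res, h i _ inf_le_right, AModX.res_smul, val_res, AModX.res_res, AModX.res_res]

/-- Homomorphisms from ideal sheaves extend to the structure sheaf. -/
theorem exists_extension (hF : Coh.IsQCoh F)
    (hst : ∀ x : X, Module.Injective (X.presheaf.stalk x) (F.presheaf.stalk x))
    {S : X.Modules} (ι : S ⟶ Coh.structureModule X) [Mono ι] (φ : S ⟶ F) :
    ∃ ψ : Coh.structureModule X ⟶ F, ι ≫ ψ = φ := by
  classical
  let P := Σ W : X.Opens, {t : Γ(F, W) // Compat ι φ W t}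
  let r : P → P → Prop := fun a b => ∃ h : a.1 ≤ b.1, AModX.res F h b.2.1 = a.2.1
  have rtrans : ∀ {a b c}, r a b → r b c → r a c := by
    rintro a b c ⟨h, e⟩ ⟨h', e'⟩
    exact ⟨h.trans h', by rw [← AModX.res_res h' h, e', e]⟩
  obtain ⟨⟨W, t, ht⟩, hmax⟩ : ∃ m, ∀ a, r m a → r a m := by
    refine exists_maximal_of_chains_bounded (fun c hc => ?_) rtrans
    let W : c → X.Opens := fun i => i.1.1
    have hcomp : ∀ i j : c, AModX.res F inf_le_left i.1.2.1 =
        AModX.res F (inf_le_right : W i ⊓ W j ≤ W j) j.1.2.1 := by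
      intro i j
      rcases eq_or_ne i j with rfl | hij
      · rfl
      rcases hc i.2 j.2 (fun h => hij (Subtype.ext h)) with ⟨h, e⟩ | ⟨h, e⟩
      · rw [← e, AModX.res_res]
      · rw [← e, AModX.res_res]
    obtain ⟨s, hs, -⟩ := AModX.existsUnique_glue (M := F) W (fun i => le_iSup W i)
      (fun p hp => Opens.mem_iSup.1 hp) (fun i => i.1.2.1) hcomp
    refine ⟨⟨⨆ i, W i, s, compat_glue ι φ W (le_iSup W) (fun p hp => Opens.mem_iSup.1 hp) s
      fun i => ?_⟩, fun a ha => ⟨le_iSup W ⟨a, ha⟩, hs ⟨a, ha⟩⟩⟩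
    rw [hs i]
    exact i.1.2.2
  have hW : W = ⊤ := by
    by_contra hne
    obtain ⟨x, -, hx⟩ := SetLike.not_le_iff_exists.1 (fun h : (⊤ : X.Opens) ≤ W => hne (top_unique h))
    obtain ⟨_, ⟨V, hV, rfl⟩, hxV, -⟩ :=
      X.isBasis_affineOpens.exists_subset_of_mem_open (Set.mem_univ x) isOpen_univ
    haveI : IsNoetherianRing Γ(X, V) := IsLocallyNoetherian.component_noetherian ⟨V, hV⟩
    obtain ⟨tV, htV⟩ := res_surjective hF hV (fun y _ => hst y) (inf_le_right : W ⊓ V ≤ V)
      (AModX.res F inf_le_left t)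
    have hc : Compat ι φ (W ⊓ V) (AModX.res F inf_le_right tV) := by
      rw [htV]
      intro W' h a
      rw [AModX.res_res]
      exact ht W' (h.trans inf_le_left) a
    obtain ⟨D, hD, t', hDW, hct', hres⟩ := exists_enlarge ι φ hF hst hV (inf_le_right : W ⊓ V ≤ V)
      (fun h => hx (h hxV).1) tV hc
    have hagree : AModX.res F (inf_le_left : W ⊓ D ≤ W) t = AModX.res F (inf_le_right : W ⊓ D ≤ D) t' := by
      have h1 : W ⊓ D ≤ D ⊓ (W ⊓ V) := le_inf inf_le_right (le_inf inf_le_left (inf_le_right.trans hD))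
      have h2 := congrArg (AModX.res F h1) hres
      rw [AModX.res_res, AModX.res_res] at h2
      have h3 := congrArg (AModX.res F (h1.trans inf_le_right)) htV
      rw [AModX.res_res, AModX.res_res] at h3
      rw [h2, h3]
    let Wb : ULift.{u} Bool → X.Opens := fun b => bif b.down then W else D
    have hle : ∀ b, Wb b ≤ W ⊔ D := fun ⟨b⟩ => by cases b; exacts [le_sup_right, le_sup_left]
    have hcov : ∀ p ∈ W ⊔ D, ∃ b, p ∈ Wb b := fun p hp => by
      rcases hp with hp | hp
      exacts [⟨⟨true⟩, hp⟩, ⟨⟨false⟩, hp⟩]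
    let sf : ∀ b, Γ(F, Wb b) := fun ⟨b⟩ => match b with | true => t | false => t'
    obtain ⟨s, hs, -⟩ := AModX.existsUnique_glue (M := F) Wb hle hcov sf (by
      rintro ⟨i⟩ ⟨j⟩
      cases i <;> cases j
      · rfl
      · have h2 := congrArg (AModX.res F (le_inf inf_le_right inf_le_left : D ⊓ W ≤ W ⊓ D)) hagree
        rw [AModX.res_res, AModX.res_res] at h2
        exact h2.symm
      · exact hagree
      · rfl)
    obtain ⟨h, -⟩ := hmax ⟨W ⊔ D, s, compat_glue ι φ Wb hle hcov s (fun ⟨b⟩ => by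
      rw [hs]
      cases b
      exacts [hct', ht])⟩ ⟨le_sup_left, hs ⟨true⟩⟩
    exact hDW (le_inf ((le_sup_right).trans h) hD)
  subst hW
  refine ⟨InvX.ofSect t, Scheme.Modules.hom_ext _ _ fun W' => ?_⟩
  ext a
  show (InvX.ofSect t).app W' (ι.app W' a) = φ.app W' a
  rw [ht W' le_top a]
  exact (InvX.app_eq_smul (InvX.ofSect t) (val ι a)).trans (by rw [InvX.one_ofSect])

theorem mono_openIncl (U : X.Opens) : Mono (ExtShX.openIncl U) := by
  refine LimMod.mono_of_stalks _ fun x => ?_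
  by_cases hx : x ∈ U
  · haveI := ExtShX.isIso_stalk_openIncl U x hx
    infer_instance
  · exact ⟨fun _ _ _ => (KFlatLib.isZero_stalk_lsh U.ι x
      (fun h => hx (by rw [Scheme.Opens.range_ι] at h; exact h)) _).eq_of_tgt _ _⟩

theorem detects_iso {P Q : X.Modules} (p : P ⟶ Q) [Mono p]
    (h : ∀ (U : X.Opens) (g : (KFlatLib.lsh U.ι).obj (Coh.structureModule U) ⟶ Q), ∃ k, k ≫ p = g) :
    IsIso p := by
  rw [Scheme.Modules.Hom.isIso_iff_isIso_app]
  intro U
  rw [ConcreteCategory.isIso_iff_bijective]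
  refine ⟨QCoh.app_injective p U, fun s => ?_⟩
  let A := KFlatLib.lshAdj U.ι
  have hU : U.ι ''ᵁ ⊤ = U := by simp
  let t : Γ((Scheme.Modules.restrictFunctor U.ι).obj Q, ⊤) := AModX.res Q hU.le s
  obtain ⟨k, hk⟩ := h U ((A.homEquiv _ _).symm (InvX.ofSect (X := (U : Scheme.{u})) t))
  have hk' := congrArg (A.homEquiv _ _) hk
  rw [Adjunction.homEquiv_naturality_right, Equiv.apply_symm_apply] at hk'
  let z : Γ(P, U.ι ''ᵁ ⊤) := InvX.one (X := (U : Scheme.{u})) (A.homEquiv _ _ k)
  have hz : p.app (U.ι ''ᵁ ⊤) z = t := by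
    refine Eq.trans ?_ (InvX.one_ofSect (X := (U : Scheme.{u})) t)
    rw [← hk']
    rfl
  refine ⟨AModX.res P hU.ge z, ?_⟩
  rw [AModX.app_res, hz]
  show AModX.res Q hU.ge (AModX.res Q hU.le s) = s
  rw [AModX.res_res, AModX.res_self]

/-- On a locally Noetherian scheme, a quasi-coherent module with injective stalks is injective. -/
theorem injective_of_stalks (hF : Coh.IsQCoh F)
    (hst : ∀ x : X, Module.Injective (X.presheaf.stalk x) (F.presheaf.stalk x)) : Injective F := by
  refine Baer.injective_of_generators.{u}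
    (fun U : X.Opens => (KFlatLib.lsh U.ι).obj (Coh.structureModule U)) (fun p _ h => detects_iso p h)
    F fun U S s _ φ => ?_
  haveI := mono_openIncl (X := X) U
  obtain ⟨ψ, hψ⟩ := exists_extension hF hst (s ≫ ExtShX.openIncl U) φ
  exact ⟨ExtShX.openIncl U ≫ ψ, by rw [← Category.assoc, hψ]⟩

end Groth.Agent.InjQC
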