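import Groth.Agent.InjQC.QCohInj
import Groth.Agent.PushAmp.PCFlatDescent
import Groth.Agent.GrpSchLib.FieldSmooth
import Groth.Agent.QCoh.Qcqs

/-!
# Direct images of injective modules from the spectrum of a local ring
-/

set_option linter.style.haveILetI false
set_option linter.unusedSectionVars false
set_option backward.isDefEq.respectTransparency false
set_option backward.isDefEq.respectTransparency.types false
set_option maxHeartbeats 1000000

universe u

open CategoryTheory CategoryTheory.Limits AlgebraicGeometry TopologicalSpace Opposite

namespace Groth.Agent.InjQC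

open Groth.Agent

variable {X : Scheme.{u}} [IsLocallyNoetherian X]

theorem injective_isQCoh_push_stalk (x : X) (E : Type u) [AddCommGroup E] [Module (X.presheaf.stalk x) E]
    [Module.Injective (X.presheaf.stalk x) E] :
    Injective ((Scheme.Modules.pushforward (X.fromSpecStalk x)).obj
        (tilde (ModuleCat.of (X.presheaf.stalk x) E))) ∧
      Coh.IsQCoh ((Scheme.Modules.pushforward (X.fromSpecStalk x)).obj
        (tilde (ModuleCat.of (X.presheaf.stalk x) E))) := by
  let g := X.fromSpecStalk x
  let H : ModuleCat.{u} (X.presheaf.stalk x) := ModuleCat.of (X.presheaf.stalk x) E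
  haveI : Flat g := GrpSchLib.flat_fromSpecStalk x
  haveI : Injective (tilde H) := injective_tilde H
  refine ⟨Injective.injective_of_adjoint (Scheme.Modules.pullbackPushforwardAdjunction g) (tilde H), ?_⟩
  haveI : IsNoetherianRing (X.presheaf.stalk x) := inferInstance
  haveI : QuasiCompact g := inferInstance
  haveI : QuasiSeparated g := inferInstance
  exact QCoh.isQCoh_pushforward g (QCoh.isQCoh_spec_iff.2 ⟨H, ⟨Iso.refl _⟩⟩)

end Groth.Agent.InjQC
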