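import Groth.Agent.InjQC.SubcxQP
import Groth.Agent.H9Misc.BddInjective
import Groth.Agent.KFlatLib.PsiC
import Mathlib.Algebra.Homology.DerivedCategory.ExactFunctor
import Mathlib.Algebra.Homology.DerivedCategory.Fractions
import Mathlib.Algebra.Homology.DerivedCategory.TStructure
import Mathlib.Algebra.Homology.DerivedCategory.HomologySequence
import Mathlib.Algebra.Homology.HomotopyCategory.MappingCone

/-!
# Derived categories of a small class inside a larger one
-/

set_option linter.style.haveILetI false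
set_option linter.unusedSectionVars false
set_option backward.isDefEq.respectTransparency false
set_option backward.isDefEq.respectTransparency.types false
set_option maxHeartbeats 1000000

universe w w' v v' u u'

open CategoryTheory Category Limits DerivedCategory Pretriangulated

namespace Groth.Agent.InjQC.SubcxFac

open SubcxQP

variable {A : Type u} [Category.{v} A] [Abelian A] {B : Type u'} [Category.{v'} B] [Abelian B]
  (F : B ⥤ A) [F.Additive] [PreservesFiniteLimits F] [PreservesFiniteColimits F] [F.Full] [F.Faithful]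
  {P Q : ObjectProperty A}

/-- `F` identifies its source with the small class. -/
structure Image (F : B ⥤ A) (P : ObjectProperty A) : Prop where
  mem : ∀ b, P (F.obj b)
  ess : ∀ a, P a → ∃ b, Nonempty (F.obj b ≅ a)

variable (ax : Ax P Q) (him : Image F P)

/-- The functor on complexes. -/
abbrev G : CochainComplex B ℤ ⥤ CochainComplex A ℤ := F.mapHomologicalComplex (ComplexShape.up ℤ)

lemma quasiIso_G_iff {M N : CochainComplex B ℤ} (f : M ⟶ N) : QuasiIso ((G F).map f) ↔ QuasiIso f :=
  HomologicalComplex.quasiIso_map_iff_of_preservesHomology f F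

lemma G_map_surjective {M N : CochainComplex B ℤ} (g : (G F).obj M ⟶ (G F).obj N) :
    ∃ f : M ⟶ N, (G F).map f = g :=
  ⟨{ f := fun n => F.preimage (g.f n)
     comm' := fun i j _ => F.map_injective (by
      rw [F.map_comp, F.map_comp, F.map_preimage, F.map_preimage]
      exact g.comm i j) }, HomologicalComplex.hom_ext _ _ fun n => F.map_preimage _⟩

lemma isStrictlyLE_G (M : CochainComplex B ℤ) (b : ℤ) [M.IsStrictlyLE b] : ((G F).obj M).IsStrictlyLE b :=
  (CochainComplex.isStrictlyLE_iff _ _).2 fun i hi => F.map_isZero (M.isZero_of_isStrictlyLE b i hi)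

include him in
lemma prop_iso (ax : Ax P Q) {X Y : A} (e : X ≅ Y) (h : P X) (hY : Q Y) : P Y := ax.quot e.hom h hY

include ax him in
/-- A complex with cohomology in the class has a quasi-isomorphic subcomplex from `B` containing a given one. -/
theorem refine_containing (K : CochainComplex A ℤ) (b : ℤ) [K.IsStrictlyLE b] (hK : ∀ n, Q (K.X n))
    (hH : ∀ n, P (K.homology n)) (Z : CochainComplex B ℤ) (φ : (G F).obj Z ⟶ K) :
    ∃ (C : CochainComplex B ℤ) (j : (G F).obj C ⟶ K) (z : Z ⟶ C),
      C.IsStrictlyLE b ∧ QuasiIso j ∧ (G F).map z ≫ j = φ := by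
  have hZ : ∀ n, P (((G F).obj Z).X n) := fun n => him.mem (Z.X n)
  let S := (P.ι.mapHomologicalComplex (ComplexShape.up ℤ)).obj (subcx ax K hK hH φ hZ b)
  let ι : S ⟶ K := inclusion ax K hK hH φ hZ b
  haveI : QuasiIso ι := quasiIso_inclusion ax K hK hH φ hZ b
  haveI : ∀ n, Mono (ι.f n) := fun n => (term ax K hK hH φ hZ b n).mono
  choose o ho using fun n => him.ess (S.X n) (term ax K hK hH φ hZ b n).mem
  let e : ∀ n, F.obj (o n) ≅ S.X n := fun n => (ho n).some
  let C : CochainComplex B ℤ := CochainComplex.of o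
    (fun n => F.preimage ((e n).hom ≫ S.d n (n + 1) ≫ (e (n + 1)).inv))
    (fun n => F.map_injective (by simp))
  let eC : (G F).obj C ≅ S := HomologicalComplex.Hom.isoOfComponents e (by
    intro i j h
    obtain rfl : i + 1 = j := h
    show (e i).hom ≫ S.d i (i + 1) = F.map (C.d i (i + 1)) ≫ (e (i + 1)).hom
    simp [C])
  obtain ⟨z, hz⟩ := exists_factor ax K hK hH φ hZ b
  obtain ⟨z', hz'⟩ := G_map_surjective F (z ≫ eC.inv)
  refine ⟨C, eC.hom ≫ ι, z', ?_, inferInstance, ?_⟩
  · refine (CochainComplex.isStrictlyLE_iff _ _).2 fun n hn => ?_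
    have h : IsZero (F.obj (o n)) :=
      (IsZero.of_mono (ι.f n) (K.isZero_of_isStrictlyLE b n hn)).of_iso (e n)
    rw [IsZero.iff_id_eq_zero]
    exact F.map_injective (h.eq_of_src _ _)
  · rw [hz', assoc, eC.inv_hom_id_assoc]
    exact hz

variable [HasDerivedCategory.{w} A] [HasDerivedCategory.{w'} B]

lemma map_Q {M N : CochainComplex B ℤ} (f : M ⟶ N) :
    F.mapDerivedCategory.map (DerivedCategory.Q.map f) = (F.mapDerivedCategoryFactors.app M).hom ≫
      DerivedCategory.Q.map ((G F).map f) ≫ (F.mapDerivedCategoryFactors.app N).inv := by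
  have h := F.mapDerivedCategoryFactors.hom.naturality f
  simp only [Iso.app_hom, Iso.app_inv]
  rw [← reassoc_of% h]
  simp

include ax in
/-- The truncation of a complex with terms in the big class. -/
lemma prop_truncLE (K : CochainComplex A ℤ) (c : ℤ) (hK : ∀ n, Q (K.X n)) (n : ℤ) :
    Q ((K.truncLE c).X n) := by
  let emb := ComplexShape.embeddingUpIntLE c
  rcases lt_or_ge c n with hic | hic
  · exact ax.le _ (ax.zero _ ((K.truncLE c).isZero_of_isStrictlyLE c n hic))
  obtain ⟨k, rfl⟩ : ∃ k : ℕ, c - k = n := ⟨(c - n).toNat, by omega⟩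
  rcases Nat.eq_zero_or_pos k with rfl | hk
  · exact ax.iso ((IsLimit.conePointUniqueUpToIso (K.cyclesIsKernel (c - (0 : ℕ)) _ rfl)
      (kernelIsKernel _)).symm ≪≫ (HomologicalComplex.truncLEXIsoCycles K emb (i := 0) rfl
        ((ComplexShape.boundaryLE_embeddingUpIntLE_iff c 0).2 rfl)).symm) (ax.ker _ (hK _) (hK _))
  · exact ax.iso (HomologicalComplex.truncLEXIso K emb (i := k) rfl
      (fun hb => by have := (ComplexShape.boundaryLE_embeddingUpIntLE_iff c k).1 hb; omega)).symm (hK _)

include ax him in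
/-- Inside a complex with cohomology in the class, bounded above, a given morphism factors through `B`. -/
theorem refine_trunc (K : CochainComplex A ℤ) (c : ℤ) [K.IsLE c] (hK : ∀ n, Q (K.X n))
    (hH : ∀ n, P (K.homology n)) (Z : CochainComplex B ℤ) [Z.IsStrictlyLE c] (φ : (G F).obj Z ⟶ K) :
    ∃ (C : CochainComplex B ℤ) (j : (G F).obj C ⟶ K) (z : Z ⟶ C),
      C.IsStrictlyLE c ∧ QuasiIso j ∧ (G F).map z ≫ j = φ := by
  haveI := isStrictlyLE_G F Z c
  haveI : QuasiIso (K.ιTruncLE c) := (CochainComplex.quasiIso_ιTruncLE_iff K c).2 inferInstance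
  have hH' : ∀ n, P ((K.truncLE c).homology n) := fun n => by
    haveI := (quasiIsoAt_iff_isIso_homologyMap (K.ιTruncLE c) n).1 inferInstance
    exact ax.sub (HomologicalComplex.homologyMap (K.ιTruncLE c) n)
      (ax.iso (asIso (HomologicalComplex.homologyMap (K.ιTruncLE c) n)).symm (ax.le _ (hH n))) (hH n)
  let φ' : (G F).obj Z ⟶ K.truncLE c :=
    inv (((G F).obj Z).ιTruncLE c) ≫ CochainComplex.truncLEMap φ c
  have hφ' : φ' ≫ K.ιTruncLE c = φ := by
    simp [φ']
  obtain ⟨C, j, z, hC, hj, hz⟩ :=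
    refine_containing F ax him (K.truncLE c) c (prop_truncLE ax K c hK) hH' Z φ'
  exact ⟨C, j ≫ K.ιTruncLE c, z, hC, inferInstance, by rw [← assoc, hz, hφ']⟩

include ax him in
lemma homology_G (M : CochainComplex B ℤ) (n : ℤ) : P (((G F).obj M).homology n) :=
  prop_iso F him ax
    ((M.sc n).mapHomologyIso F).symm (him.mem _)
    (ax.iso ((M.sc n).mapHomologyIso F).symm (ax.le _ (him.mem _)))

/-- `M` has a quasi-isomorphism to a bounded below complex of injectives with terms in the big class. -/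
def HasInjRes (Q : ObjectProperty A) (M : CochainComplex A ℤ) : Prop :=
  ∃ (I : CochainComplex A ℤ) (u : M ⟶ I) (a : ℤ), I.IsStrictlyGE a ∧ (∀ n, Injective (I.X n)) ∧
    (∀ n, Q (I.X n)) ∧ QuasiIso u

include ax him in
theorem full_Q (M N : CochainComplex B ℤ) (b : ℤ) [M.IsStrictlyLE b] [N.IsStrictlyLE b]
    (hN : HasInjRes Q ((G F).obj N)) :
    Function.Surjective (fun φ : DerivedCategory.Q.obj M ⟶ DerivedCategory.Q.obj N =>
      F.mapDerivedCategory.map φ) := by
  intro f
  obtain ⟨I, u, a, ha, hi, hQ, hu⟩ := hN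
  haveI := hi
  haveI : I.IsKInjective := CochainComplex.isKInjective_of_injective I a
  haveI := isStrictlyLE_G F N b
  let eM := F.mapDerivedCategoryFactors.app M
  let eN := F.mapDerivedCategoryFactors.app N
  obtain ⟨ψ, hψ⟩ := H9Misc.BddInjective.lift_to_injective (eM.inv ≫ f ≫ eN.hom ≫ DerivedCategory.Q.map u)
  let Z := M ⊞ N
  haveI : Z.IsStrictlyLE b := (CochainComplex.isStrictlyLE_iff _ _).2 fun i hi => by
    refine IsZero.of_iso ?_ (HomologicalComplex.biprodXIso M N i)
    rw [IsZero.iff_id_eq_zero]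
    exact biprod.hom_ext _ _ ((M.isZero_of_isStrictlyLE b i hi).eq_of_tgt _ _)
      ((N.isZero_of_isStrictlyLE b i hi).eq_of_tgt _ _)
  let φ : (G F).obj Z ⟶ I := (G F).map biprod.fst ≫ ψ + (G F).map biprod.snd ≫ u
  haveI hIle : I.IsLE b := (CochainComplex.isLE_iff I b).2 fun i hi =>
    (exactAt_iff_of_quasiIsoAt u i).1 (((G F).obj N).exactAt_of_isLE b i hi)
  have hH : ∀ n, P (I.homology n) := fun n => by
    haveI := (quasiIsoAt_iff_isIso_homologyMap u n).1 inferInstance
    exact ax.sub (inv (HomologicalComplex.homologyMap u n))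
      (ax.iso (asIso (HomologicalComplex.homologyMap u n)) (ax.le _ (homology_G F ax him N n)))
      (homology_G F ax him N n)
  obtain ⟨C, j, z, _, hj, hz⟩ := refine_trunc F ax him I b hQ hH Z φ
  have hN' : (G F).map (biprod.inr ≫ z) ≫ j = u := by
    rw [Functor.map_comp, assoc, hz]
    simp only [φ, Preadditive.comp_add, ← Functor.map_comp_assoc]
    simp
  have hM' : (G F).map (biprod.inl ≫ z) ≫ j = ψ := by
    rw [Functor.map_comp, assoc, hz]
    simp only [φ, Preadditive.comp_add, ← Functor.map_comp_assoc]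
    simp
  haveI : QuasiIso ((G F).map (biprod.inr ≫ z)) := by
    haveI : QuasiIso ((G F).map (biprod.inr ≫ z) ≫ j) := hN' ▸ hu
    exact quasiIso_of_comp_right _ j
  haveI : QuasiIso (biprod.inr ≫ z) := (quasiIso_G_iff F _).1 inferInstance
  refine ⟨DerivedCategory.Q.map (biprod.inl ≫ z) ≫ inv (DerivedCategory.Q.map (biprod.inr ≫ z)), ?_⟩
  show F.mapDerivedCategory.map _ = f
  rw [Functor.map_comp, Functor.map_inv, IsIso.comp_inv_eq, map_Q, map_Q]
  show eM.hom ≫ _ ≫ (F.mapDerivedCategoryFactors.app C).inv = f ≫ eN.hom ≫ _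
  rw [← cancel_mono ((F.mapDerivedCategoryFactors.app C).hom ≫ DerivedCategory.Q.map j)]
  simp only [assoc, Iso.inv_hom_id_assoc]
  rw [← Functor.map_comp, ← Functor.map_comp, hM', hN', hψ, Iso.hom_inv_id_assoc]

include ax him in
theorem faithful_Q (M N : CochainComplex B ℤ) (a b : ℤ) [M.IsStrictlyLE b] [N.IsStrictlyLE b]
    [N.IsStrictlyGE a]
    (hres : ∀ N' : CochainComplex B ℤ, N'.IsStrictlyGE a → N'.IsLE b → HasInjRes Q ((G F).obj N'))
    (φ : DerivedCategory.Q.obj M ⟶ DerivedCategory.Q.obj N) (hφ : F.mapDerivedCategory.map φ = 0) :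
    φ = 0 := by
  obtain ⟨N', hN', f, s, hs, rfl⟩ := left_fac_of_isStrictlyGE φ a
  haveI : QuasiIso s := (isIso_Q_map_iff_quasiIso (φ := s)).1 hs
  haveI hle' : N'.IsLE b := (CochainComplex.isLE_iff N' b).2 fun i hi =>
    (exactAt_iff_of_quasiIsoAt s i).1 (N.exactAt_of_isLE b i hi)
  let N'' := N'.truncLE b
  haveI : QuasiIso (N'.ιTruncLE b) := (CochainComplex.quasiIso_ιTruncLE_iff N' b).2 inferInstance
  let f' : M ⟶ N'' := inv (M.ιTruncLE b) ≫ CochainComplex.truncLEMap f b
  have hf' : f' ≫ N'.ιTruncLE b = f := by simp [f']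
  suffices hf0 : DerivedCategory.Q.map f = 0 by rw [hf0, zero_comp]
  have hFf : DerivedCategory.Q.map ((G F).map f) = 0 := by
    rw [Functor.map_comp, Functor.map_inv] at hφ
    have h1 : F.mapDerivedCategory.map (DerivedCategory.Q.map f) = 0 := by
      rw [← cancel_mono (inv (F.mapDerivedCategory.map (DerivedCategory.Q.map s))), hφ, zero_comp]
    rw [map_Q] at h1
    rw [← cancel_epi (F.mapDerivedCategoryFactors.app M).hom,
      ← cancel_mono (F.mapDerivedCategoryFactors.app N').inv, assoc, h1, comp_zero, zero_comp]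
  obtain ⟨I, u, a', ha', hi, hQ, hu⟩ := hres N' hN' hle'
  haveI := hi
  haveI : I.IsKInjective := CochainComplex.isKInjective_of_injective I a'
  have hq : (HomotopyCategory.quotient A (ComplexShape.up ℤ)).map ((G F).map f ≫ u) = 0 := by
    refine (CochainComplex.IsKInjective.Qh_map_bijective _ I).1 ?_
    let q := quotientCompQhIso A
    rw [Functor.map_zero, ← cancel_mono (q.hom.app I), zero_comp]
    refine (q.hom.naturality ((G F).map f ≫ u)).trans ?_
    rw [Functor.map_comp, hFf, zero_comp, comp_zero]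
  let H : Homotopy ((G F).map f' ≫ (G F).map (N'.ιTruncLE b) ≫ u) 0 :=
    (Homotopy.ofEq (by rw [← Functor.map_comp_assoc, hf'])).trans
      (HomotopyCategory.homotopyOfEq _ _ (hq.trans (Functor.map_zero _ _ _).symm))
  let α := CochainComplex.HomComplex.Cochain.ofHomotopy H
  let d : CochainComplex.mappingCone ((G F).map f') ⟶ I :=
    CochainComplex.mappingCone.desc _ α ((G F).map (N'.ιTruncLE b) ≫ u) (by simp [α])
  let Z := CochainComplex.mappingCone f'
  haveI : Z.IsStrictlyLE b := (CochainComplex.isStrictlyLE_iff _ _).2 fun i hi => by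
    haveI : HasBinaryBiproduct (M.X (i + 1)) (N''.X i) := inferInstance
    refine IsZero.of_iso ?_ (HomologicalComplex.homotopyCofiber.XIsoBiprod f' i (i + 1) rfl)
    rw [IsZero.iff_id_eq_zero]
    exact biprod.hom_ext _ _ ((M.isZero_of_isStrictlyLE b _ (by omega)).eq_of_tgt _ _)
      ((N''.isZero_of_isStrictlyLE b i hi).eq_of_tgt _ _)
  let ψ : (G F).obj Z ⟶ I := (CochainComplex.mappingCone.mapHomologicalComplexIso f' F).hom ≫ d
  haveI hIle : I.IsLE b := (CochainComplex.isLE_iff I b).2 fun i hi => by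
    haveI : QuasiIso ((G F).map (N'.ιTruncLE b)) := (quasiIso_G_iff F _).2 inferInstance
    haveI := isStrictlyLE_G F N'' b
    exact (exactAt_iff_of_quasiIsoAt ((G F).map (N'.ιTruncLE b) ≫ u) i).1
      (((G F).obj N'').exactAt_of_isLE b i hi)
  have hH : ∀ n, P (I.homology n) := fun n => by
    haveI := (quasiIsoAt_iff_isIso_homologyMap u n).1 inferInstance
    exact ax.sub (inv (HomologicalComplex.homologyMap u n))
      (ax.iso (asIso (HomologicalComplex.homologyMap u n)) (ax.le _ (homology_G F ax him N' n)))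
      (homology_G F ax him N' n)
  obtain ⟨C, j, z, _, hj, hz⟩ := refine_trunc F ax him I b hQ hH Z ψ
  let v : N'' ⟶ C := CochainComplex.mappingCone.inr f' ≫ z
  have hv : (G F).map v ≫ j = (G F).map (N'.ιTruncLE b) ≫ u := by
    rw [Functor.map_comp, assoc, hz]
    simp only [ψ]
    rw [← assoc, CochainComplex.mappingCone.map_inr]
    exact CochainComplex.mappingCone.inr_desc _ _ _ _
  haveI : QuasiIso v := by
    haveI : QuasiIso ((G F).map (N'.ιTruncLE b)) := (quasiIso_G_iff F _).2 inferInstance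
    haveI : QuasiIso ((G F).map v ≫ j) := hv ▸ inferInstance
    exact (quasiIso_G_iff F _).1 (quasiIso_of_comp_right _ j)
  have h0 : DerivedCategory.Q.map f' ≫ DerivedCategory.Q.map (CochainComplex.mappingCone.inr f') = 0 :=
    comp_distTriang_mor_zero₁₂ _ (DerivedCategory.mappingCone_triangle_distinguished f')
  have h1 : DerivedCategory.Q.map f' = 0 := by
    rw [← cancel_mono (DerivedCategory.Q.map v), zero_comp, Functor.map_comp DerivedCategory.Q _ z,
      reassoc_of% h0, zero_comp]
  rw [← hf', Functor.map_comp, h1, zero_comp]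

include ax him in
theorem bijective (M N : DerivedCategory B) (a b : ℤ) (hM : M.IsLE b) [N.IsLE b] [N.IsGE a]
    (hres : ∀ (N' : CochainComplex B ℤ) (a' b' : ℤ), N'.IsStrictlyGE a' → N'.IsLE b' → HasInjRes Q ((G F).obj N')) :
    Function.Bijective (fun φ : M ⟶ N => F.mapDerivedCategory.map φ) := by
  haveI := hM
  obtain ⟨CM, _, ⟨eM⟩⟩ := M.exists_iso_Q_obj_of_isLE b
  obtain ⟨CN, _, _, ⟨eN⟩⟩ := N.exists_iso_Q_obj_of_isGE_of_isLE a b
  have key : Function.Bijective (fun φ : DerivedCategory.Q.obj CM ⟶ DerivedCategory.Q.obj CN =>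
      F.mapDerivedCategory.map φ) := by
    refine ⟨fun x y h => sub_eq_zero.1 (faithful_Q F ax him CM CN a b (fun N' h₁ h₂ => hres N' a b h₁ h₂) _ ?_),
      full_Q F ax him CM CN b (hres CN a b inferInstance inferInstance)⟩
    rw [Functor.map_sub]
    exact sub_eq_zero.2 h
  have h : (fun φ : M ⟶ N => F.mapDerivedCategory.map φ) =
      ((F.mapDerivedCategory.mapIso eM).homCongr (F.mapDerivedCategory.mapIso eN)).symm ∘
        (fun φ => F.mapDerivedCategory.map φ) ∘ eM.homCongr eN := by
    ext φ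
    simp [← Functor.map_comp]
  rw [h]
  exact (Equiv.bijective _).comp (key.comp (Equiv.bijective _))

include ax in
/-- Bounds are detected after applying `F`. -/
theorem isZero_homology_iff (M : DerivedCategory B) (n : ℤ) :
    IsZero ((homologyFunctor B n).obj M) ↔ IsZero ((homologyFunctor A n).obj (F.mapDerivedCategory.obj M)) := by
  refine ⟨fun h => (F.map_isZero h).of_iso ((KFlatLib.mapDCHomologyIso F n).app M), fun h => ?_⟩
  have h' := h.of_iso ((KFlatLib.mapDCHomologyIso F n).app M).symm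
  rw [IsZero.iff_id_eq_zero]
  exact F.map_injective (h'.eq_of_src _ _)

end Groth.Agent.InjQC.SubcxFac
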